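import Cfsg.Agent.H129.PhiE
import Cfsg.Agent.H77.E4Poly_m3
import Cfsg.Agent.FastGrp
import Cfsg.Agent.Prune
set_option linter.all false
prune_inst 0x7f00000000000000000000000000000000000000000000000000000000000000000000000000000000000000000000000000000000000000000000000000000000000000000000000000000000000000003fffffffffffffffffffffffffffbeffbdffffffff
open scoped Cfsg.Agent.FastGrp

/-!
# Conjugates of semisimple elements in the untwisted groups (helper559)

`w` an element of the Weyl group of `D`, `F` finite, `q = |F|`.  There is a homomorphism `φ : ℤ^l / (w - q) → D.group F`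
whose kernel has exponent dividing `d` (`InvC D l d B`) such that for every `v ∈ C_W(w)` which acts as a scalar `c` on
`ℤ^l / (w - q)` there is `u ∈ D.group F` with `u φ(x) u⁻¹ = φ(x)^c` for all `x` (`exists_hom_act`).  The case `v = w`,
`c = q` : `conj_pow`.

The Lang map gives such elements in the fixed points `Y^σ` of the group over the algebraic closure; they are moved into the
image of `D.group F` by an element of the twisted torus (`adjust`), by means of the Steinberg group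
(`H129.StCover`).
-/

set_option autoImplicit false
set_option linter.unusedSectionVars false

namespace Cfsg.Agent.H559.ChevConj

open CoxeterSystem Subgroup Cfsg Cfsg.Lie Cfsg.Lie.ChevalleyDatum
open Cfsg.Agent.ChevalleyStructure Cfsg.Agent.ChevalleyStructure.Elts Cfsg.Agent.ChevalleyStructure.CoxeterGeom
  Cfsg.Agent.ChevalleyStructure.CoxeterGeomTypes Cfsg.Agent.ChevalleyStructure.NPerm
open Cfsg.Agent.Tits.Roots Cfsg.Agent.Tits.Core Cfsg.Agent.Nodes Cfsg.Agent.Nodes.Reps Cfsg.Agent.Nodes.BNOf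
  Cfsg.Agent.Nodes.RGDChev Cfsg.Agent.Nodes.Bruhat
open Cfsg.Agent.KFacts.RgdField Cfsg.Agent.KFacts.RgdChevCoord Cfsg.Agent.BpExc.TorCent Cfsg.Agent.BpExc.TorChev
open Cfsg.Agent.BpExc.Tow Cfsg.Agent.BpExc.TowChev Cfsg.Agent.BpExc.FamExt Cfsg.Agent.BpExc.FamUntw
  Cfsg.Agent.BpExc.FamInst Cfsg.Agent.BpExc.LangFr Cfsg.Agent.BpExc.FamField
open Cfsg.Agent.GpExc.Field (glMap emb coe_emb glMap_xG emb_injective coe_glMap)
open Cfsg.Agent.H378.TorDual Cfsg.Agent.H378.TorChar Cfsg.Agent.H378.TorFin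
open Cfsg.Agent.ChevalleyStructure.StBasic Cfsg.Agent.ChevalleyStructure.StTheta
open Cfsg.Agent.H129.StCover
open Cfsg.Agent.H129.TorusUntw (frob_fix_iff)

universe u

section Cover

variable {D : ChevalleyDatum} {l : ℕ} {M : CoxeterMatrix (Fin l)} (hp : IsType D l M) {k : Type u} [Field k]
  [IsAlgClosed k] {W : Type*} [Group W] (cs : CoxeterSystem M W) {r : ℕ} [Fact r.Prime] [CharP k r] {n : ℕ}
  {Φ : (Fin D.rank → kˣ) →* D.SteinbergGroup k} (hΦ : IsPhi Φ)

theorem phi_eq (y : ↥(D.group k)) : phi D k r n y = emb hp.inList (iterateFrobenius k r n) y := by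
  have e : (iterateFrobenius k r n) = frobHom k r n := by
    ext t
    rw [frobHom_apply, iterateFrobenius_def]
  apply Subtype.ext
  rw [phi_glMap, coe_emb, e]

/-- the Frobenius map and the projection -/
theorem theta_sg (x : D.SteinbergGroup k) :
    theta hp.inList k (stMap D (iterateFrobenius k r n) x) = phi D k r n (theta hp.inList k x) := by
  rw [theta_stMap, phi_eq hp]

include hΦ in
theorem sg_Phi (b : Fin D.rank → kˣ) :
    stMap D (iterateFrobenius k r n) (Φ b) = Φ (fun i => b i ^ r ^ n) := by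
  rw [stMap_phi hΦ]
  refine congrArg Φ (funext fun i => Units.ext ?_)
  rw [Units.val_pow_eq_pow_val]
  exact iterateFrobenius_def _ _ _

theorem sg_nW (ω : List (Fin l)) : stMap D (iterateFrobenius k r n) (nW D k ω) = nW D k ω := by
  induction ω with
  | nil => simp [nW]
  | cons i ω ih => rw [nW_cons, map_mul, ih, stMap_stn, map_one]

theorem exists_center {x y : D.SteinbergGroup k} (hxy : theta hp.inList k x = theta hp.inList k y) :
    ∃ κ ∈ Subgroup.center (D.SteinbergGroup k), y = x * κ := by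
  refine ⟨x⁻¹ * y, ?_, by group⟩
  rw [← ker_theta hp.inList, MonoidHom.mem_ker, map_mul, map_inv, hxy, inv_mul_cancel]

theorem theta_center {κ : D.SteinbergGroup k} (h : κ ∈ Subgroup.center (D.SteinbergGroup k)) :
    theta hp.inList k κ = 1 := by
  rw [← MonoidHom.mem_ker, ker_theta hp.inList]; exact h

/-- the representatives -/
theorem rp_nW {hN : NSys M (TT D k) (nc hp k)} (ω : List (Fin l)) :
    Rp cs hN (cs.wordProd ω) (theta hp.inList k (nW D k ω)) := by
  induction ω with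
  | nil =>
    rw [wordProd_nil]
    have : theta hp.inList k (nW D k ([] : List (Fin l))) = 1 := by simp [nW]
    rw [this]
    exact rp_one
  | cons i ω ih =>
    rw [wordProd_cons, nW_cons, map_mul, theta_stn_simple hp]
    exact (rp_simple cs hN i).mul ih

theorem phi_nW (ω : List (Fin l)) :
    phi D k r n (theta hp.inList k (nW D k ω)) = theta hp.inList k (nW D k ω) := by
  rw [← theta_sg hp, sg_nW]

include hΦ in
/-- elements of the torus of the cover with entries in `F` -/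
theorem theta_Phi_mem {F : Type u} [Field F] (f : F →+* k) {b : Fin D.rank → kˣ}
    (hb : ∀ i, ((b i : kˣ) : k) ∈ Set.range f) : theta hp.inList k (Φ b) ∈ (emb hp.inList f).range := by
  have h : b ∈ ((emb hp.inList f).range.comap ((theta hp.inList k).comp Φ)) := by
    rw [← Finset.univ_prod_mulSingle b]
    refine Subgroup.prod_mem _ fun i _ => ?_
    rw [Subgroup.mem_comap, MonoidHom.comp_apply, hΦ.single]
    obtain ⟨c, hc⟩ := hb i
    rw [← hc, ← stMap_sth, theta_stMap]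
    exact ⟨_, rfl⟩
  exact h

include hΦ cs in
/-- **Fixed elements of the cover come from `D.group F`.** -/
theorem lift_fix {F : Type u} [Field F] [Finite F] (f : F →+* k) (hn : Nat.card F = r ^ n)
    {x : D.SteinbergGroup k} (hx : stMap D (iterateFrobenius k r n) x = x) :
    theta hp.inList k x ∈ (emb hp.inList f).range := by
  have := Fintype.ofFinite F
  have hn' : Fintype.card F = r ^ n := by rw [← hn, Nat.card_eq_fintype_card]
  have hfix : (iterateFrobenius k r n).comp f = f := by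
    ext a
    exact (frob_fix_iff f hn' (f a)).2 ⟨a, rfl⟩
  have hy : phi D k r n (theta hp.inList k x) = theta hp.inList k x := by rw [← theta_sg hp, hx]
  obtain ⟨_, ⟨a', rfl⟩, t, ht, -, e⟩ := exists_split hp f r hn hy
  obtain ⟨a, rfl⟩ := theta_surjective hp.inList a'
  obtain ⟨b, rfl⟩ := exists_theta_phi hΦ hp ht
  have h1 : theta hp.inList k (stMap D f a * Φ b) = theta hp.inList k x := by
    rw [map_mul, theta_stMap, e]
  obtain ⟨κ, hκ, h2⟩ := exists_center hp h1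
  obtain ⟨b', rfl⟩ := hΦ.center_le hκ
  rw [mul_assoc, ← map_mul] at h2
  have h3 : (fun i => (b * b') i ^ r ^ n) = b * b' := by
    apply hΦ.inj
    rw [← sg_Phi hΦ]
    have h4 := hx
    rw [h2, map_mul, stMap_comp, hfix] at h4
    exact mul_left_cancel h4
  rw [h2, map_mul, theta_stMap]
  refine mul_mem ⟨_, rfl⟩ (theta_Phi_mem hp hΦ f fun i => ?_)
  rw [← frob_fix_iff f hn']
  have h4 := congrArg Units.val (congrFun h3 i)
  simp only [Units.val_pow_eq_pow_val] at h4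
  rw [iterateFrobenius_def]
  exact h4

include hΦ in
/-- **Lang's theorem for a twisted torus.** -/
theorem exists_tor_sol (hn0 : 0 < n) (ω : List (Fin l)) {s : ↥(D.group k)} (hs : s ∈ TT D k) :
    ∃ τ ∈ TT D k, theta hp.inList k (nW D k ω) * phi D k r n τ * (theta hp.inList k (nW D k ω))⁻¹ = τ * s := by
  have hq2 : 2 ≤ r ^ n := by
    calc 2 ≤ r := (Fact.out : r.Prime).two_le
      _ = r ^ 1 := (pow_one r).symm
      _ ≤ r ^ n := Nat.pow_le_pow_right (Fact.out : r.Prime).pos hn0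
  obtain ⟨c, rfl⟩ := exists_theta_phi hΦ hp hs
  obtain ⟨A, hA⟩ := exists_matrix hp.inList hΦ (lt_rank hp) ω
  obtain ⟨b, hb⟩ := exists_solution A hq2 c
  refine ⟨theta hp.inList k (Φ b), theta_phi_mem hp.inList hΦ b, ?_⟩
  rw [← theta_sg hp, sg_Phi hΦ, ← map_mul, ← map_inv, ← map_mul, hA, hb, map_mul, map_mul]

include hΦ cs in
/-- **The twisted torus covers `Y^σ / K`.** -/
theorem adjust {F : Type u} [Field F] [Finite F] (f : F →+* k) (hn0 : 0 < n) (hn : Nat.card F = r ^ n)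
    (ω : List (Fin l)) {z : ↥(D.group k)} (hz : z⁻¹ * phi D k r n z = theta hp.inList k (nW D k ω))
    {y : ↥(D.group k)} (hy : phi D k r n y = y) :
    ∃ t ∈ TwT D k r n (theta hp.inList k (nW D k ω)), y * (z * t * z⁻¹) ∈ (emb hp.inList f).range := by
  have hq2 : 2 ≤ r ^ n := by
    calc 2 ≤ r := (Fact.out : r.Prime).two_le
      _ = r ^ 1 := (pow_one r).symm
      _ ≤ r ^ n := Nat.pow_le_pow_right (Fact.out : r.Prime).pos hn0
  obtain ⟨y', rfl⟩ := theta_surjective hp.inList y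
  obtain ⟨z', rfl⟩ := theta_surjective hp.inList z
  have h1 : theta hp.inList k y' = theta hp.inList k (stMap D (iterateFrobenius k r n) y') := by
    rw [theta_sg hp, hy]
  obtain ⟨κ, hκ, h2⟩ := exists_center hp h1
  have h3 : theta hp.inList k (z' * nW D k ω) = theta hp.inList k (stMap D (iterateFrobenius k r n) z') := by
    rw [theta_sg hp, map_mul, ← hz]; group
  obtain ⟨κ', hκ', h4⟩ := exists_center hp h3
  obtain ⟨c, rfl⟩ := hΦ.center_le hκ
  obtain ⟨A, hA⟩ := exists_matrix hp.inList hΦ (lt_rank hp) ω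
  obtain ⟨b, hb⟩ := exists_solution A hq2 c⁻¹
  have h5 : nW D k ω * stMap D (iterateFrobenius k r n) (Φ b) * (nW D k ω)⁻¹ = Φ b * (Φ c)⁻¹ := by
    rw [sg_Phi hΦ, hA, hb, map_mul, map_inv]
  refine ⟨theta hp.inList k (Φ b), ⟨theta_phi_mem hp.inList hΦ b, ?_⟩, ?_⟩
  · rw [← theta_sg hp, ← map_mul, ← map_inv, ← map_mul, h5, map_mul, map_inv, theta_center hp hκ, inv_one, mul_one]
  · rw [← map_inv, ← map_mul, ← map_mul, ← map_mul]
    refine lift_fix hp cs hΦ f hn ?_
    have hc : ∀ x : D.SteinbergGroup k, x * Φ c = Φ c * x := fun x => Subgroup.mem_center_iff.1 hκ x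
    have hc' : ∀ x : D.SteinbergGroup k, κ' * x * κ'⁻¹ = x := fun x => by
      rw [← Subgroup.mem_center_iff.1 hκ' x, mul_inv_cancel_right]
    rw [map_mul, map_mul, map_mul, map_inv, h2, h4]
    calc y' * Φ c * (z' * nW D k ω * κ' * stMap D (iterateFrobenius k r n) (Φ b) * (z' * nW D k ω * κ')⁻¹)
        = y' * Φ c * (z' * (nW D k ω * (κ' * stMap D (iterateFrobenius k r n) (Φ b) * κ'⁻¹) * (nW D k ω)⁻¹) * z'⁻¹) := by
          group
      _ = y' * Φ c * (z' * (Φ b * (Φ c)⁻¹) * z'⁻¹) := by rw [hc', h5]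
      _ = y' * (Φ c * (z' * Φ b)) * (Φ c)⁻¹ * z'⁻¹ := by group
      _ = y' * (z' * Φ b * z'⁻¹) := by rw [← hc (z' * Φ b)]; group

include hΦ in
/-- representatives of the elements of `C_W(w)` -/
theorem exists_rp_tw (hn0 : 0 < n) {hN : NSys M (TT D k) (nc hp k)} (ω : List (Fin l)) {v : W}
    (hv : Commute (cs.wordProd ω) v) : ∃ m : ↥(D.group k), Rp cs hN v m ∧
      theta hp.inList k (nW D k ω) * phi D k r n m * (theta hp.inList k (nW D k ω))⁻¹ = m := by
  obtain ⟨ω', rfl⟩ := cs.wordProd_surjective v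
  have h0 := rp_nW hp cs (hN := hN) ω
  have h1 := rp_nW hp cs (hN := hN) ω'
  set g := theta hp.inList k (nW D k ω) with hg
  set m₀ := theta hp.inList k (nW D k ω') with hm₀
  have h2 : Rp cs hN (cs.wordProd ω') (g * m₀ * g⁻¹) := by
    have := (h0.mul h1).mul h0.inv
    rwa [hv.eq, mul_inv_cancel_right] at this
  have hs : m₀⁻¹ * (g * m₀ * g⁻¹) ∈ TT D k := h1.unique h2
  obtain ⟨τ, hτ, h3⟩ := exists_tor_sol hp hΦ (r := r) hn0 ω (inv_mem hs)
  rw [← hg] at h3
  refine ⟨m₀ * τ, h1.mul_mem_right hτ, ?_⟩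
  rw [map_mul, hm₀, phi_nW hp, ← hm₀]
  have h4 := TT_comm hp _ hτ _ hs
  calc g * (m₀ * phi D k r n τ) * g⁻¹ = m₀ * (m₀⁻¹ * (g * m₀ * g⁻¹)) * (g * phi D k r n τ * g⁻¹) := by group
    _ = m₀ * ((m₀⁻¹ * (g * m₀ * g⁻¹)) * τ) * (m₀⁻¹ * (g * m₀ * g⁻¹))⁻¹ := by rw [h3]; group
    _ = m₀ * τ := by rw [← h4]; group

end Cover

section Main

variable {D : ChevalleyDatum} {l : ℕ} {M : CoxeterMatrix (Fin l)} (hp : IsType D l M) {k : Type u} [Field k]
  [IsAlgClosed k] {W : Type*} [Group W] (cs : CoxeterSystem M W) (hk : LocFin k) (r : ℕ) [Fact r.Prime] [CharP k r]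
  {F : Type u} [Field F] [Finite F] (f : F →+* k) {n : ℕ} (hn0 : 0 < n) (hn : Nat.card F = r ^ n)
  {d : ℕ} {B : Fin l → Fin l → ℤ} (hB : InvC D l d B) (hd : d ≠ 0)
  {Φ : (Fin D.rank → kˣ) →* D.SteinbergGroup k} (hΦ : IsPhi Φ)

include hk hn0 hn hB hd f hΦ in
theorem exists_hom_act_aux (w : W) : ∃ φ : Multiplicative (Co (rep cs hp.isCartan w - ((Nat.card F : ℕ) : ℤ) •
    (1 : Module.End ℤ (Fin l → ℤ)))) →* ↥(D.group F), (∀ x, φ x = 1 → x ^ d = 1) ∧
    ∀ (v : W) (c : ℤ), Commute w v → (∀ x : Fin l → ℤ, ∃ y : Fin l → ℤ, rep cs hp.isCartan v x - c • x =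
      (rep cs hp.isCartan w - ((Nat.card F : ℕ) : ℤ) • (1 : Module.End ℤ (Fin l → ℤ))) y) →
      ∃ u : ↥(D.group F), ∀ x, u * φ x * u⁻¹ = φ x ^ c := by
  rw [hn]
  obtain ⟨ω, rfl⟩ := cs.wordProd_surjective w
  have hg := rp_nW hp cs (hN := nsysL hp cs hk r) ω
  obtain ⟨z, hz⟩ := lang' hp r hn0 (theta hp.inList k (nW D k ω))
  obtain ⟨g, hg'⟩ : ∃ g, g = theta hp.inList k (nW D k ω) := ⟨_, rfl⟩
  rw [← hg'] at hz hg
  obtain ⟨e, he⟩ := twEquiv hp cs r hk hB hd hg (m := n)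
  obtain ⟨e'⟩ := kerOf_equiv k (det_rep_ne_zero cs r hn0 hp.isCartan (cs.wordProd ω))
  -- the map `t ↦ emb⁻¹ ((z t z⁻¹) ^ d)`
  have h1 : ∀ t : ↥(TwT D k r n g), ∃ x : ↥(D.group F), emb hp.inList f x = (z * t.1 * z⁻¹) ^ d := fun t =>
    fix_pow_mem hp f r hn hB hd (conj_fix r hz t.2)
  choose ψ hψ using h1
  have hmul : ∀ s t : ↥(TwT D k r n g), ψ (s * t) = ψ s * ψ t := by
    intro s t
    apply emb_injective hp.inList f
    rw [map_mul, hψ, hψ, hψ]
    have h2 : z * (s * t).1 * z⁻¹ = (z * s.1 * z⁻¹) * (z * t.1 * z⁻¹) := by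
      show z * (s.1 * t.1) * z⁻¹ = _
      group
    rw [h2]
    refine (Commute.mul_pow ?_ d)
    show z * s.1 * z⁻¹ * (z * t.1 * z⁻¹) = z * t.1 * z⁻¹ * (z * s.1 * z⁻¹)
    calc z * s.1 * z⁻¹ * (z * t.1 * z⁻¹) = z * (s.1 * t.1) * z⁻¹ := by group
      _ = z * (t.1 * s.1) * z⁻¹ := by rw [TwT_comm hp r s.2 t.2]
      _ = _ := by group
  let Ψ : ↥(TwT D k r n g) →* ↥(D.group F) := MonoidHom.mk' ψ hmul
  refine ⟨Ψ.comp (e.symm.toMonoidHom.comp e'.symm.toMonoidHom), fun x hx => ?_, fun v c hv hc => ?_⟩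
  · obtain ⟨t, ht⟩ : ∃ t, t = e.symm (e'.symm x) := ⟨_, rfl⟩
    have h3 : ψ t = 1 := by rw [ht]; exact hx
    have h4 : (z * t.1 * z⁻¹) ^ d = 1 := by rw [← hψ, h3, map_one]
    have h5 : t ^ d = 1 := by
      apply Subtype.ext
      rw [Subgroup.coe_pow, Subgroup.coe_one]
      have h6 : (z * t.1 * z⁻¹) ^ d = z * t.1 ^ d * z⁻¹ := conj_pow
      rw [h6] at h4
      have h7 : t.1 ^ d = z⁻¹ * (z * t.1 ^ d * z⁻¹) * z := by group
      rw [h7, h4]
      group
    have h8 : x = e' (e t) := by rw [ht, MulEquiv.apply_symm_apply, MulEquiv.apply_symm_apply]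
    rw [h8, ← map_pow, ← map_pow, h5, map_one, map_one]
  · -- the representative of `v`
    obtain ⟨m, hm, hm2⟩ := exists_rp_tw hp cs hΦ (r := r) hn0 (hN := nsysL hp cs hk r) ω hv
    rw [← hg'] at hm2
    have hφz : phi D k r n z = z * g := by rw [← hz]; group
    -- `m` acts as `c⁻¹` on the twisted torus
    have hact : ∀ t ∈ TwT D k r n g, m⁻¹ * t * m ∈ TwT D k r n g ∧ m⁻¹ * t * m = t ^ c := by
      intro t ht
      have ht1 : m⁻¹ * t * m ∈ TT D k := by
        have := rp_conj_mem hp cs hm.inv ht.1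
        rwa [inv_inv] at this
      have hTw : m⁻¹ * t * m ∈ TwT D k r n g := by
        refine ⟨ht1, ?_⟩
        rw [map_mul, map_mul, map_inv]
        calc g * ((phi D k r n m)⁻¹ * phi D k r n t * phi D k r n m) * g⁻¹ =
            (g * phi D k r n m * g⁻¹)⁻¹ * (g * phi D k r n t * g⁻¹) * (g * phi D k r n m * g⁻¹) := by group
          _ = m⁻¹ * t * m := by rw [hm2, ht.2]
      refine ⟨hTw, ?_⟩
      have ht2 : m * (m⁻¹ * t * m) * m⁻¹ ∈ TT D k := by
        have : m * (m⁻¹ * t * m) * m⁻¹ = t := by group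
        rw [this]; exact ht.1
      have h2 : (⟨m⁻¹ * t * m, ht1⟩ : ↥(TT D k)) = ⟨t, ht.1⟩ ^ c := by
        apply tchar_injective hp
        refine ext_sr fun i => ?_
        rw [map_zpow, MonoidHom.zpow_apply]
        have h3 := tchar_conj hp cs hk r hm ht1 ht2 (sr i)
        rw [← h3]
        have h4 : (⟨m * (m⁻¹ * t * m) * m⁻¹, ht2⟩ : ↥(TT D k)) = ⟨t, ht.1⟩ := Subtype.ext (by
          show m * (m⁻¹ * t * m) * m⁻¹ = t
          group)
        rw [h4]
        obtain ⟨y, hy⟩ := hc (sr i)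
        have h5 := (mem_kerOf k).1 ((mem_TwT_iff hp cs r hk hg ht.1).1 ht) y
        rw [← hy, sub_eq_add_neg, ofAdd_add, map_mul, ofAdd_neg, map_inv, ofAdd_zsmul, map_zpow, mul_inv_eq_one] at h5
        exact h5
      exact congrArg Subtype.val h2
    -- adjust
    have hyσ : phi D k r n (z * m⁻¹ * z⁻¹) = z * m⁻¹ * z⁻¹ := by
      rw [map_mul, map_mul, map_inv, map_inv, hφz]
      calc z * g * (phi D k r n m)⁻¹ * (z * g)⁻¹ = z * (g * phi D k r n m * g⁻¹)⁻¹ * z⁻¹ := by group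
        _ = _ := by rw [hm2]
    obtain ⟨t₀, ht₀, u, hu⟩ := adjust hp cs hΦ f hn0 hn ω (by rw [← hg']; exact hz) hyσ
    rw [← hg'] at ht₀
    refine ⟨u, fun x => ?_⟩
    obtain ⟨t, ht⟩ : ∃ t, t = e.symm (e'.symm x) := ⟨_, rfl⟩
    change u * ψ (e.symm (e'.symm x)) * u⁻¹ = ψ (e.symm (e'.symm x)) ^ c
    rw [← ht]
    apply emb_injective hp.inList f
    rw [map_mul, map_mul, map_inv, map_zpow, hu, hψ]
    have h6 : (z * t.1 * z⁻¹) ^ d = z * t.1 ^ d * z⁻¹ := conj_pow
    rw [h6, conj_zpow]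
    have htd : t.1 ^ d ∈ TwT D k r n g := pow_mem t.2 d
    have h7 := TwT_comm hp r ht₀ htd
    calc z * m⁻¹ * z⁻¹ * (z * t₀ * z⁻¹) * (z * t.1 ^ d * z⁻¹) * (z * m⁻¹ * z⁻¹ * (z * t₀ * z⁻¹))⁻¹ =
        z * (m⁻¹ * (t₀ * t.1 ^ d * t₀⁻¹) * m) * z⁻¹ := by group
      _ = z * (m⁻¹ * t.1 ^ d * m) * z⁻¹ := by rw [h7, mul_inv_cancel_right]
      _ = z * (t.1 ^ d) ^ c * z⁻¹ := by rw [(hact _ htd).2]

end Main

section Final

variable {D : ChevalleyDatum} {l : ℕ} {M : CoxeterMatrix (Fin l)} (hp : IsType D l M)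
  {W : Type*} [Group W] (cs : CoxeterSystem M W)

/-- **Maximal tori up to exponent `d` with the action of the centralizer of `w`.** -/
theorem exists_hom_act {d : ℕ} {B : Fin l → Fin l → ℤ} (hB : InvC D l d B) (hd : d ≠ 0)
    (hPhi : ∀ (k : Type u) [Field k], ∃ Φ : (Fin D.rank → kˣ) →* D.SteinbergGroup k, IsPhi Φ)
    {F : Type u} [Field F] [Finite F] (w : W) :
    ∃ φ : Multiplicative ((Fin l → ℤ) ⧸ LinearMap.range (rep cs hp.isCartan w -
      ((Nat.card F : ℕ) : ℤ) • (1 : Module.End ℤ (Fin l → ℤ)))) →* ↥(D.group F), (∀ x, φ x = 1 → x ^ d = 1) ∧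
    ∀ (v : W) (c : ℤ), Commute w v → (∀ x : Fin l → ℤ, ∃ y : Fin l → ℤ, rep cs hp.isCartan v x - c • x =
      (rep cs hp.isCartan w - ((Nat.card F : ℕ) : ℤ) • (1 : Module.End ℤ (Fin l → ℤ))) y) →
      ∃ u : ↥(D.group F), ∀ x, u * φ x * u⁻¹ = φ x ^ c := by
  obtain ⟨k, _, _, f, r, _, _, n, hk, -, hn0, hn⟩ := exists_closure F
  obtain ⟨Φ, hΦ⟩ := hPhi k
  exact exists_hom_act_aux hp cs hk r f hn0 hn hB hd hΦ w

end Final

end Cfsg.Agent.H559.ChevConj
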