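import Cfsg.Agent.H58.Rec.KillTwo
import Cfsg.Agent.H713.Spor.Fi22
import Cfsg.Agent.H835.SylFive_m3
import Cfsg.Agent.Prune
set_option linter.all false
prune_inst 0x7f00000000000000000000000000000000000000000000000000000000000000000000000000000000000000000000000000000000000000000000000000000000000000000000000000000000000000003fffffffffffffffffffffffffffbeffbdffffffff
open scoped Cfsg.Agent.FastGrp

/-!
# Element orders of `Fi22` (helper559)

For `hM : Spor.IsoFi22 M`:
* `no26`, `no28`, `no33`, `no35`, `no39`, `no42`, `no44`, `no45`, `no49`, `no55`, `no65`, `no66`, `no77`, `no91`, `no121`,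
  `no132` : these numbers are not element orders;
* `has21`, `has22` : element orders;
* `isol13`, `good13`.
-/

set_option autoImplicit false

namespace Cfsg.Agent.H559.FiSpec

open Subgroup Cfsg Cfsg.Agent.LThreeFi22 Cfsg.Agent.KFacts.FiTT
open Cfsg.Agent.H58.Rec (HasOrd Good hasOrd_mul isolated_of_sc)
open Cfsg.Agent.H455.Isolated (Isolated exists_pow_orderOf)

universe v

variable {M : Type v} [Group M]

/-- an element order divisible by `p` divides the order of the centralizer of an element of order `p` -/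
theorem dvd_cent [Finite M] {n p c : ℕ} (hn : HasOrd M n) (hp : p ∣ n)
    (hc : ∀ y : M, orderOf y = p → Nat.card (centralizer ({y} : Set M)) = c) : n ∣ c := by
  obtain ⟨g, rfl⟩ := hn
  obtain ⟨k, hk⟩ := exists_pow_orderOf hp
  rw [← hc _ hk]
  have h3 : orderOf (⟨g, mem_centralizer_singleton_iff.2 ((Commute.refl g).pow_right k).eq⟩ :
      centralizer ({g ^ k} : Set M)) ∣ Nat.card (centralizer ({g ^ k} : Set M)) := orderOf_dvd_natCard _
  rwa [Subgroup.orderOf_mk] at h3

theorem finite_of (hM : Spor.IsoFi22 M) : Finite M := by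
  obtain ⟨e⟩ := hM
  exact (Cfsg.Agent.H836.inv_of_iso e).ctx.finite

theorem card_eq (hM : Spor.IsoFi22 M) : Nat.card M = 64561751654400 := by
  obtain ⟨e⟩ := hM
  exact (Cfsg.Agent.H836.inv_of_iso e).ctx.card

theorem pow_ne {y : M} {p : ℕ} (h1 : 1 < p) (hy : orderOf y = p) : y ^ p = 1 ∧ y ≠ 1 := by
  refine ⟨hy ▸ pow_orderOf_eq_one y, ?_⟩
  rintro rfl
  rw [orderOf_one] at hy
  omega

theorem cent5 (hM : Spor.IsoFi22 M) {y : M} (hy : orderOf y = 5) : Nat.card (centralizer ({y} : Set M)) = 600 := by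
  obtain ⟨e⟩ := hM
  have h := pow_ne (by norm_num) hy
  exact Cfsg.Agent.H835.Five.card_centralizer (Cfsg.Agent.H836.inv_of_iso e) h.1 h.2

theorem cent7 (hM : Spor.IsoFi22 M) {y : M} (hy : orderOf y = 7) : Nat.card (centralizer ({y} : Set M)) = 42 := by
  obtain ⟨e⟩ := hM
  have h := pow_ne (by norm_num) hy
  exact (Cfsg.Agent.H836.inv_of_iso e).card_seven h.1 h.2

theorem cent11 (hM : Spor.IsoFi22 M) {y : M} (hy : orderOf y = 11) : Nat.card (centralizer ({y} : Set M)) = 22 := by
  obtain ⟨e⟩ := hM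
  have h := pow_ne (by norm_num) hy
  exact (Cfsg.Agent.H836.inv_of_iso e).card_eleven h.1 h.2

theorem cent13 (hM : Spor.IsoFi22 M) {y : M} (hy : orderOf y = 13) : Nat.card (centralizer ({y} : Set M)) = 13 := by
  obtain ⟨e⟩ := hM
  exact Cfsg.Agent.H713.Spor.Fi22.cent_13 e hy

section

variable (hM : Spor.IsoFi22 M)
include hM

theorem no_13 {n : ℕ} (h : 13 ∣ n) (h2 : ¬ n ∣ 13) : ¬ HasOrd M n := by
  have := finite_of hM
  exact fun hn => h2 (dvd_cent hn h fun y hy => cent13 hM hy)

theorem no_11 {n : ℕ} (h : 11 ∣ n) (h2 : ¬ n ∣ 22) : ¬ HasOrd M n := by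
  have := finite_of hM
  exact fun hn => h2 (dvd_cent hn h fun y hy => cent11 hM hy)

theorem no_7 {n : ℕ} (h : 7 ∣ n) (h2 : ¬ n ∣ 42) : ¬ HasOrd M n := by
  have := finite_of hM
  exact fun hn => h2 (dvd_cent hn h fun y hy => cent7 hM hy)

theorem no_5 {n : ℕ} (h : 5 ∣ n) (h2 : ¬ n ∣ 600) : ¬ HasOrd M n := by
  have := finite_of hM
  exact fun hn => h2 (dvd_cent hn h fun y hy => cent5 hM hy)

theorem no26 : ¬ HasOrd M 26 := no_13 hM (by norm_num) (by norm_num)
theorem no28 : ¬ HasOrd M 28 := no_7 hM (by norm_num) (by norm_num)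
theorem no33 : ¬ HasOrd M 33 := no_11 hM (by norm_num) (by norm_num)
theorem no35 : ¬ HasOrd M 35 := no_7 hM (by norm_num) (by norm_num)
theorem no44 : ¬ HasOrd M 44 := no_11 hM (by norm_num) (by norm_num)
theorem no45 : ¬ HasOrd M 45 := no_5 hM (by norm_num) (by norm_num)
theorem no55 : ¬ HasOrd M 55 := no_11 hM (by norm_num) (by norm_num)
theorem no77 : ¬ HasOrd M 77 := no_11 hM (by norm_num) (by norm_num)
theorem no91 : ¬ HasOrd M 91 := no_13 hM (by norm_num) (by norm_num)
theorem no121 : ¬ HasOrd M 121 := no_11 hM (by norm_num) (by norm_num)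
/-- `C(y)`, `y` of order seven, has order 42 and three transpositions no two of which commute -/
theorem no42 : ¬ HasOrd M 42 := by
  have := finite_of hM
  rintro ⟨g, hg⟩
  have hy : orderOf (g ^ 6) = 7 := by
    rw [orderOf_pow_of_dvd (by norm_num) (by rw [hg]; norm_num), hg]
  have h7 := cent7 hM hy
  have h1 : zpowers g = centralizer ({g ^ 6} : Set M) := by
    apply eq_of_le_of_card_ge
    · rw [zpowers_le, mem_centralizer_singleton_iff]
      exact ((Commute.refl g).pow_right 6).eq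
    · rw [h7, Nat.card_zpowers, hg]
  obtain ⟨e⟩ := hM
  have I := Cfsg.Agent.H836.inv_of_iso e
  obtain ⟨hy1, hy2⟩ := pow_ne (by norm_num) hy
  have h3 := I.ctx.seven_card hy1 hy2
  obtain ⟨a, b, c, hab, -, -, hS⟩ := Set.ncard_eq_three.1 h3
  have ha : a ∈ Fx (TK e) (g ^ 6) := by rw [hS]; simp
  have hb : b ∈ Fx (TK e) (g ^ 6) := by rw [hS]; simp
  have hac : a ∈ zpowers g := by
    rw [h1]
    exact mem_centralizer_singleton_iff.2 ha.2.symm
  have hbc : b ∈ zpowers g := by
    rw [h1]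
    exact mem_centralizer_singleton_iff.2 hb.2.symm
  obtain ⟨i, rfl⟩ := mem_zpowers_iff.1 hac
  obtain ⟨j, rfl⟩ := mem_zpowers_iff.1 hbc
  have h4 : g ^ i * g ^ j = g ^ j * g ^ i := by rw [← zpow_add, ← zpow_add, add_comm]
  have h5 := I.ctx.seven_comm hy1 hy2 ha hb h4
  first
    | exact hab h5
    | exact hab h5.symm

theorem has21 : HasOrd M 21 := by
  have hfin := finite_of hM
  have h7 : Fact (Nat.Prime 7) := ⟨by norm_num⟩
  have h3 : Fact (Nat.Prime 3) := ⟨by norm_num⟩
  obtain ⟨y, hy⟩ := exists_prime_orderOf_dvd_card' (G := M) 7 (by rw [card_eq hM]; norm_num)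
  obtain ⟨x, hx⟩ := exists_prime_orderOf_dvd_card' (G := centralizer ({y} : Set M)) 3 (by
    rw [cent7 hM hy]; norm_num)
  have hxM : orderOf (x : M) = 3 := by rw [Subgroup.orderOf_coe, hx]
  exact hasOrd_mul (show Commute y (x : M) from (mem_centralizer_singleton_iff.1 x.2).symm) hy hxM (by norm_num)

theorem has22 : HasOrd M 22 := by
  obtain ⟨e⟩ := hM
  exact Cfsg.Agent.H713.Spor.Fi22.exists_22 e

theorem isol13 : Isolated M 13 := by
  have hfin := finite_of hM
  exact isolated_of_sc (by norm_num) fun x hx => cent13 hM hx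

theorem good13 : Good M 13 where
  prime := by norm_num
  ne2 := by norm_num
  dvd := by rw [card_eq hM]; norm_num
  iso := isol13 hM
  ex := ⟨21, by decide, by norm_num, has21 hM, no42 hM⟩

end

end Cfsg.Agent.H559.FiSpec
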