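import Cfsg.Agent.H60.SolvLift
import Cfsg.Agent.H77.E4Poly_m3
import Cfsg.Agent.FastGrp
import Cfsg.Agent.Prune
set_option linter.all false
prune_inst 0x7f00000000000000000000000000000000000000000000000000000000000000000000000000000000000000000000000000000000000000000000000000000000000000000000000000000000000000003fffffffffffffffffffffffffffbeffbdffffffff
open scoped Cfsg.Agent.FastGrp

/-!
# Elements whose order is divisible by all primes of a class, exceptional groups (helper559, for S3624)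

* `exc_of_classes` : `Exc S` from at most 20 classes of primes;
* `joint_untw` : a torus element of `D.group F` of order divisible by all given primes dividing `c(q)`;
* `joint_tw` : the twisted version.
-/

set_option autoImplicit false
set_option linter.unusedSectionVars false

namespace Cfsg.Agent.H559.ExcJoint

open CoxeterSystem Cfsg Cfsg.Lie Cfsg.Lie.ChevalleyDatum
open Cfsg.Agent.ChevalleyStructure Cfsg.Agent.ChevalleyStructure.Elts Cfsg.Agent.ChevalleyStructure.CoxeterGeom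
  Cfsg.Agent.ChevalleyStructure.CoxeterGeomTypes Cfsg.Agent.ChevalleyStructure.NPerm
open Cfsg.Agent.Tits.Roots Cfsg.Agent.Tits.Core Cfsg.Agent.Nodes Cfsg.Agent.Nodes.Reps Cfsg.Agent.Nodes.BNOf
  Cfsg.Agent.Nodes.RGDChev Cfsg.Agent.Nodes.Bruhat Cfsg.Agent.Nodes.SubComb Cfsg.Agent.Nodes.Coroot
open Cfsg.Agent.KFacts.RgdField Cfsg.Agent.KFacts.RgdChevCoord Cfsg.Agent.BpExc.TorCent Cfsg.Agent.BpExc.TorChev
open Cfsg.Agent.GpExc.Field Cfsg.Agent.BpExc.Tow Cfsg.Agent.BpExc.TowChev Cfsg.Agent.BpExc.Fr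
  Cfsg.Agent.BpExc.LangFr Cfsg.Agent.LangThm Cfsg.Agent.BpExc Cfsg.Agent.H129.TorusChar Cfsg.Agent.H129.TorusCent
  Cfsg.Agent.H129.TorusTw Cfsg.Agent.H129.TorusMain Cfsg.Agent.H493.PGTorus Cfsg.Agent.H493.PGTwist
open Cfsg.Agent.H370.DP

universe u

/-- **Pigeonhole.** -/
theorem exc_of_classes {S : Type*} [Group S] {m : ℕ} (hm : m ≤ 20) (p : ℕ) (P : Fin m → ℕ → Prop)
    (hcov : ∀ r : ℕ, r.Prime → 31 < r → r ∣ Nat.card S → r = p ∨ ∃ i, P i r)
    (hj : ∀ (i : Fin m) (T : Finset ℕ), (∀ r ∈ T, r.Prime ∧ 31 < r ∧ P i r) → ∃ g : S, ∀ r ∈ T, r ∣ orderOf g) :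
    Exc S := by
  classical
  intro c T hc hT hcard
  by_contra hno
  have h1 : ∀ i, (T.filter (P i)).card ≤ c := by
    intro i
    by_contra h
    obtain ⟨T', hT', hc'⟩ := Finset.exists_subset_card_eq (s := T.filter (P i)) (n := c + 1) (by omega)
    obtain ⟨g, hg⟩ := hj i T' (fun r hr => by
      have h2 := Finset.mem_filter.1 (hT' hr)
      exact ⟨(hT r h2.1).1, (hT r h2.1).2.1, h2.2⟩)
    exact hno ⟨T', hT'.trans (Finset.filter_subset _ _), hc', g, hg⟩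
  have h2 : T ⊆ {p} ∪ Finset.univ.biUnion (fun i => T.filter (P i)) := by
    intro r hr
    rcases hcov r (hT r hr).1 (hT r hr).2.1 (hT r hr).2.2 with h | ⟨i, hi⟩
    · exact Finset.mem_union_left _ (Finset.mem_singleton.2 h)
    · exact Finset.mem_union_right _ (Finset.mem_biUnion.2 ⟨i, Finset.mem_univ _, Finset.mem_filter.2 ⟨hr, hi⟩⟩)
  have h3 := Finset.card_le_card h2
  have h4 : (Finset.univ.biUnion (fun i => T.filter (P i))).card ≤ m * c := by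
    refine Finset.card_biUnion_le.trans ?_
    refine (Finset.sum_le_card_nsmul _ _ c (fun i _ => h1 i)).trans ?_
    rw [Finset.card_univ, Fintype.card_fin, smul_eq_mul]
  have h5 := Finset.card_union_le {p} (Finset.univ.biUnion (fun i => T.filter (P i)))
  rw [Finset.card_singleton] at h5
  have h6 : m * c ≤ 20 * c := Nat.mul_le_mul_right _ hm
  omega

/-- the product of distinct primes -/
theorem prod_dvd_int {T : Finset ℕ} {z : ℤ} (hT : ∀ r ∈ T, r.Prime) (h : ∀ r ∈ T, (r : ℤ) ∣ z) :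
    ((∏ r ∈ T, r : ℕ) : ℤ) ∣ z := by
  have h1 : (∏ r ∈ T, r) ∣ z.natAbs := by
    refine Finset.prod_primes_dvd _ (fun r hr => (hT r hr).prime) fun r hr => ?_
    exact Int.natCast_dvd.1 (h r hr)
  exact Int.natCast_dvd.2 h1

section

variable {l : ℕ} {w : Module.End ℤ (Fin l → ℤ)} {Th : Fin l → Fin l → ℤ}

/-- **An element of order `N` in the cokernel.** -/
theorem exists_order_N (hw : ∀ (x : Fin l → ℤ) (m : Fin l), w x m = ∑ j, x j * Th j m) {n : ℕ} (hn : 0 < n)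
    (hwn : w ^ n = 1) {f : ℕ} {c : Fin (f + 1) → ℤ} {V : Fin (f + 1) → Fin l → ℤ} {U : Fin l → ℤ}
    (h : EigOK Th c V U) {q : ℤ} (hq : 2 ≤ q) {N : ℕ} (hd : (N : ℤ) ∣ pv c q) :
    ∃ y : Multiplicative ((Fin l → ℤ) ⧸ LinearMap.range (w - q • (1 : Module.End ℤ (Fin l → ℤ)))),
      ∀ k : ℕ, y ^ k = 1 → N ∣ k := by
  obtain ⟨M, hM⟩ := hd
  have h1 := eig_apply hw h q
  have h2 := eig_unit h q
  set v := vval V q
  let u : Fin l → ℤ := -M • V (Fin.last f)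
  have hu : (w - q • (1 : Module.End ℤ (Fin l → ℤ))) v = (N : ℤ) • u := by
    rw [h1, hM]
    show _ = (N : ℤ) • (-M • V (Fin.last f))
    rw [smul_smul]
    congr 1
    ring
  refine ⟨Multiplicative.ofAdd (Submodule.Quotient.mk u), fun k hk => ?_⟩
  rw [← ofAdd_nsmul] at hk
  have h3 : k • (Submodule.Quotient.mk u : (Fin l → ℤ) ⧸ LinearMap.range (w - q • (1 : Module.End ℤ (Fin l → ℤ)))) = 0 :=
    Multiplicative.ofAdd.injective hk
  rw [← Submodule.Quotient.mk_smul, Submodule.Quotient.mk_eq_zero] at h3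
  obtain ⟨v', hv'⟩ := h3
  have h4 : (w - q • (1 : Module.End ℤ (Fin l → ℤ))) ((k : ℤ) • v - (N : ℤ) • v') = 0 := by
    rw [map_sub, map_smul, map_smul, hu, hv', natCast_zsmul, smul_comm, natCast_zsmul, sub_self]
  have h5 := sub_injective hn hwn hq h4
  have h6 : (k : ℤ) • v = (N : ℤ) • v' := sub_eq_zero.mp h5
  have h7 : (k : ℤ) = (N : ℤ) * ∑ m, U m * v' m := by
    calc (k : ℤ) = (k : ℤ) * ∑ m, U m * v m := by rw [h2, mul_one]
      _ = ∑ m, U m * ((k : ℤ) • v) m := by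
          rw [Finset.mul_sum]
          exact Finset.sum_congr rfl fun m _ => by rw [Pi.smul_apply, smul_eq_mul]; ring
      _ = ∑ m, U m * ((N : ℤ) • v') m := by rw [h6]
      _ = _ := by
          rw [Finset.mul_sum]
          exact Finset.sum_congr rfl fun m _ => by rw [Pi.smul_apply, smul_eq_mul]; ring
  exact Int.natCast_dvd_natCast.1 ⟨_, h7⟩

end

section Untw

variable {D : ChevalleyDatum} {l : ℕ} {M : CoxeterMatrix (Fin l)} (hp : IsType D l M) {W : Type*} [Group W] [Finite W]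
  (cs : CoxeterSystem M W)

/-- **Joint torus elements, untwisted groups.** -/
theorem joint_untw {d : ℕ} {B : Fin l → Fin l → ℤ} (hB : InvC D l d B) (hd : d ≠ 0) {F : Type u} [Field F] [Finite F]
    {w : W} {Th : Fin l → Fin l → ℤ} (hw : ∀ j, rep cs hp.isCartan w (sr j) = Th j)
    {f : ℕ} {c : Fin (f + 1) → ℤ} {V : Fin (f + 1) → Fin l → ℤ} {U : Fin l → ℤ} (h : EigOK Th c V U)
    {T : Finset ℕ} (hT : ∀ r ∈ T, r.Prime ∧ ¬ r ∣ d ∧ (r : ℤ) ∣ pv c (Nat.card F)) :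
    ∃ g : ↥(D.group F), ∀ r ∈ T, r ∣ orderOf g := by
  obtain ⟨φ, hφ⟩ := H378.TorFin.exists_hom hp cs hB hd (F := F) w
  have hq : (2 : ℤ) ≤ (Nat.card F : ℤ) := by
    exact_mod_cast Finite.one_lt_card
  have hwn : (rep cs hp.isCartan w) ^ Nat.card W = 1 := by
    rw [← map_pow, pow_card_eq_one', map_one]
  obtain ⟨y, hy⟩ := exists_order_N (rep_apply_eq hp cs hw) Nat.card_pos hwn h hq (N := ∏ r ∈ T, r)
    (prod_dvd_int (fun r hr => (hT r hr).1) fun r hr => (hT r hr).2.2)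
  refine ⟨φ y, fun r hr => ?_⟩
  have h1 : φ (y ^ orderOf (φ y)) = 1 := by rw [map_pow, pow_orderOf_eq_one]
  have h2 := hφ _ h1
  rw [← pow_mul] at h2
  have h3 : r ∣ orderOf (φ y) * d := (Finset.dvd_prod_of_mem _ hr).trans (hy _ h2)
  exact ((hT r hr).1.dvd_mul.1 h3).resolve_right (hT r hr).2.1

end Untw

section Alg

variable {D : ChevalleyDatum} {l : ℕ} {M : CoxeterMatrix (Fin l)} (hp : IsType D l M) {k : Type u} [Field k]
  [IsAlgClosed k] {W : Type*} [Group W] (cs : CoxeterSystem M W) {p e : ℕ} [Fact p.Prime] [CharP k p]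
  {σ : MulAut ↥(D.group k)} {g : (Fin l → ℤ) ≃+ (Fin l → ℤ)}

/-- **Torus elements of order `N`.** -/
theorem exists_t_N (hσ : IsFrob p e σ) (F : Fr cs hp.isCartan (TT D k) (XX D l k) σ g) {d' : ℕ}
    {B' : Fin l → Fin l → ℤ} (hB : InvC D l d' B') (hd' : d' ≠ 0) {L : (Fin l → ℤ) →+ ℤ} {N : ℕ}
    (hNk : (N : k) ≠ 0) (hL : ∀ x, (N : ℤ) ∣ L (g x) - ((p ^ e : ℕ) : ℤ) * L x) {x₀ : Fin l → ℤ} (hx₀ : L x₀ = 1) :
    ∃ t ∈ TT D k, σ t = t ∧ ∀ n : ℕ, t ^ n = 1 → N ∣ n := by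
  have : NeZero (N : k) := ⟨hNk⟩
  have hN0 : N ≠ 0 := by
    rintro rfl
    exact hNk Nat.cast_zero
  obtain ⟨u, hu⟩ := HasEnoughRootsOfUnity.exists_primitiveRoot k N
  have hu0 : u ≠ 0 := hu.ne_zero hN0
  have hMC : IsMC (fun x : Fin l → ℤ => u ^ L x) :=
    ⟨by rw [map_zero, zpow_zero], fun x y => by rw [map_add, zpow_add₀ hu0]⟩
  obtain ⟨t, ht, hcX⟩ := exists_cX hp hB hd' hMC fun i =>
    IsAlgClosed.exists_pow_nat_eq _ (Nat.pos_of_ne_zero hd')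
  have hone : ∀ z : ℤ, u ^ z = 1 ↔ (N : ℤ) ∣ z := fun z => hu.zpow_eq_one_iff_dvd z
  have hσt : σ t ∈ TT D k := (F.tor t).2 ht
  refine ⟨t, ht, ?_, fun n hn => ?_⟩
  · refine cX_inj hp hσt ht fun i => ?_
    have h1 : sr i = g (g.symm (sr i)) := (g.apply_symm_apply _).symm
    rw [h1, cX_sigma hp cs hσ F ht, hcX, hcX, ← zpow_natCast, ← zpow_mul]
    obtain ⟨M', hM'⟩ := hL (g.symm (sr i))
    have h2 : L (g (g.symm (sr i))) = L (g.symm (sr i)) * ((p ^ e : ℕ) : ℤ) + (N : ℤ) * M' := by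
      rw [← hM']; ring
    rw [h2, zpow_add₀ hu0, (hone ((N : ℤ) * M')).2 (dvd_mul_right _ _), mul_one]
  · have h1 : cX hp (t ^ n) x₀ = 1 := by rw [hn, cX_one]
    rw [cX_pow hp ht, hcX, hx₀, zpow_one] at h1
    exact (hu.pow_eq_one_iff_dvd n).1 h1

end Alg

section Main

variable {D : ChevalleyDatum} {l : ℕ} {M : CoxeterMatrix (Fin l)} (hp : IsType D l M) {k : Type u} [Field k]
  [IsAlgClosed k] {W : Type*} [Group W] [Finite W] (cs : CoxeterSystem M W) {p e : ℕ} [Fact p.Prime] [CharP k p]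
  {σ : MulAut ↥(D.group k)} {g : (Fin l → ℤ) ≃+ (Fin l → ℤ)}
  {G0 : Type*} [Group G0] {e0 : G0 →* ↥(D.group k)}

theorem natCast_prod_ne {T : Finset ℕ} (hT : ∀ r ∈ T, r.Prime ∧ r ≠ p) : ((∏ r ∈ T, r : ℕ) : k) ≠ 0 := by
  rw [Nat.cast_prod]
  refine Finset.prod_ne_zero_iff.2 fun r hr => ?_
  rw [Ne, CharP.cast_eq_zero_iff k p]
  intro h
  exact (hT r hr).2 ((Nat.prime_dvd_prime_iff_eq (Fact.out : p.Prime) (hT r hr).1).1 h).symm

/-- **Joint torus elements, twisted groups.** -/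
theorem joint_of_fun (hk : LocFin k) (he : 0 < e) (hσ : IsFrob p e σ)
    (F : Fr cs hp.isCartan (TT D k) (XX D l k) σ g) {d' : ℕ} {B' : Fin l → Fin l → ℤ} (hB : InvC D l d' B')
    (hd' : d' ≠ 0) {d : ℕ} (hd : ∀ y, σ y = y → y ^ d ∈ e0.range)
    {w : W} {L : (Fin l → ℤ) →+ ℤ} {T : Finset ℕ} (hT : ∀ r ∈ T, r.Prime ∧ ¬ r ∣ d ∧ r ≠ p)
    (hL : ∀ r ∈ T, ∀ x, (r : ℤ) ∣ L ((g.trans (repAut cs hp.isCartan w)) x) - ((p ^ e : ℕ) : ℤ) * L x)
    {x₀ : Fin l → ℤ} (hx₀ : L x₀ = 1) : ∃ x : G0, ∀ r ∈ T, r ∣ orderOf x := by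
  obtain ⟨n, z, hz, hσ', F'⟩ := exists_z hp cs hk he hσ F w
  obtain ⟨t, ht, h3, h4⟩ := exists_t_N hp cs hσ' F' hB hd' (N := ∏ r ∈ T, r)
    (natCast_prod_ne fun r hr => ⟨(hT r hr).1, (hT r hr).2.2⟩)
    (fun x => prod_dvd_int (fun r hr => (hT r hr).1) fun r hr => hL r hr x) hx₀
  obtain ⟨x, hx⟩ := hd _ (fix_conj hz h3)
  refine ⟨x, fun r hr => ?_⟩
  have h5 : (z * t * z⁻¹) ^ (d * orderOf x) = 1 := by
    rw [pow_mul, ← hx, ← map_pow, pow_orderOf_eq_one, map_one]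
  have h6 : t ^ (d * orderOf x) = 1 := by
    rw [conj_pow] at h5
    have h7 : z * t ^ (d * orderOf x) = z := by
      calc z * t ^ (d * orderOf x) = z * t ^ (d * orderOf x) * z⁻¹ * z := by group
        _ = z := by rw [h5, one_mul]
    exact mul_eq_left.1 h7
  have h8 : r ∣ d * orderOf x := (Finset.dvd_prod_of_mem _ hr).trans (h4 _ h6)
  exact ((hT r hr).1.dvd_mul.1 h8).resolve_left (hT r hr).2.1

/-- **Joint torus elements, twisted groups, eigenvector form.** -/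
theorem joint_tw (hk : LocFin k) (he : 0 < e) (hσ : IsFrob p e σ)
    (F : Fr cs hp.isCartan (TT D k) (XX D l k) σ g) {d' : ℕ} {B' : Fin l → Fin l → ℤ} (hB : InvC D l d' B')
    (hd' : d' ≠ 0) {d : ℕ} (hd : ∀ y, σ y = y → y ^ d ∈ e0.range)
    {w : W} {Th : Fin l → Fin l → ℤ} (hw : ∀ j, rep cs hp.isCartan w (g (sr j)) = Th j)
    {f : ℕ} {c : Fin (f + 1) → ℤ} {V : Fin (f + 1) → Fin l → ℤ} {U : Fin l → ℤ}
    (h : EigOK (fun i j => Th j i) c V U) (hc : c 0 = 1 ∨ c 0 = -1)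
    {T : Finset ℕ} (hT : ∀ r ∈ T, r.Prime ∧ ¬ r ∣ d ∧ (r : ℤ) ∣ pv c ((p ^ e : ℕ) : ℤ)) :
    ∃ x : G0, ∀ r ∈ T, r ∣ orderOf x :=
  joint_of_fun hp cs hk he hσ F hB hd' hd (w := w)
    (fun r hr => ⟨(hT r hr).1, (hT r hr).2.1, ne_char hc Fact.out he (hT r hr).2.2⟩)
    (fun r hr x => hL_of_eig hp cs hw h (hT r hr).2.2 x) (lam_unit h _)

end Main

end Cfsg.Agent.H559.ExcJoint
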