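import Mathlib
import Cfsg.Agent.H852.NCPsl11_m3
import Cfsg.Agent.OddHalf.LongSL.Abs
import Cfsg.Agent.Cit.LongSp
import Cfsg.Agent.PLocal.SubnormalCore
import Cfsg.Agent.SignalizersComponents.CoprimeBasic
import Cfsg.Agent.ClassicalGeometry.QuatPair
import Cfsg.Agent.Lib.Cores
import Cfsg.Agent.PLocal.PConstrained
import Cfsg.Agent.H688.TransAut
import Cfsg.Agent.FastGrp
import Cfsg.Agent.Prune
set_option linter.all false
prune_inst 0x7f00000000000000000000000000000000000000000000000000000000000000000000000000000000000000000000000000000000000000000000000000000000000000000000000000000000000000003fffffffffffffffffffffffffffbeffbdffffffff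
open scoped Cfsg.Agent.FastGrp

-- part: H559/NotLong
section
/-!
# The local condition `Loc S` excludes long `SL₂(q)`, `q` odd (helper559, for S4386)

* `exists_ikx` : the relations of `SL₂(3)` in `SL₂(F)`, `F` of odd characteristic;
* `core_ne`, `core_three` : a subnormal `SL₂(q)` of `X` and an element `z` commuting with a quaternion subgroup
  (`q ≠ 3`), respectively with `O₂(X)` (`q = 3`): `C(z)` is not `2`-nilpotent;
* `not_long` : the statement.
-/

set_option autoImplicit false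

namespace Cfsg.Agent.H559.NotLong

open Subgroup Cfsg Cfsg.Agent.H584.NC Cfsg.Agent.Cit.LongAbs Cfsg.Agent.Cit.LongSL3
  Cfsg.Agent.SignalizersComponents Cfsg.Agent.SignalizersComponents.Components

universe u

/-! ### the quaternion group in `SL₂(F)` -/

section sl

variable {F : Type*} [Field F]

theorem entry (p q : Matrix.SpecialLinearGroup (Fin 2) F) (r s : Fin 2) :
    (p * q).1 r s = p.1 r 0 * q.1 0 s + p.1 r 1 * q.1 1 s := by
  change (p.1 * q.1) r s = _
  rw [Matrix.mul_apply, Fin.sum_univ_two]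

theorem ext2 {p q : Matrix.SpecialLinearGroup (Fin 2) F} (h1 : p.1 0 0 = q.1 0 0) (h2 : p.1 0 1 = q.1 0 1)
    (h3 : p.1 1 0 = q.1 1 0) (h4 : p.1 1 1 = q.1 1 1) : p = q := by
  apply Subtype.ext
  ext r s
  fin_cases r <;> fin_cases s <;> assumption

theorem neg_entry (p : Matrix.SpecialLinearGroup (Fin 2) F) (r s : Fin 2) : (-p).1 r s = - p.1 r s := rfl

theorem one00 : (1 : Matrix.SpecialLinearGroup (Fin 2) F).1 0 0 = 1 := rfl
theorem one01 : (1 : Matrix.SpecialLinearGroup (Fin 2) F).1 0 1 = 0 := rfl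
theorem one10 : (1 : Matrix.SpecialLinearGroup (Fin 2) F).1 1 0 = 0 := rfl
theorem one11 : (1 : Matrix.SpecialLinearGroup (Fin 2) F).1 1 1 = 1 := rfl

/-- elements `i, k, x` of `SL₂(F)` with the relations of `SL₂(3)` -/
theorem exists_ikx (h2 : (2 : F) ≠ 0) {a b : F} (hab : a ^ 2 + b ^ 2 = -1) :
    ∃ i k x : Matrix.SpecialLinearGroup (Fin 2) F, i * i = -1 ∧ k * k = -1 ∧ i * k = -(k * i) ∧ x * x * x = 1 ∧
      x * i = k * x ∧ x * k = i * k * x ∧
      ∀ g : Matrix.SpecialLinearGroup (Fin 2) F, g * i = i * g → g * k = k * g → g = 1 ∨ g = -1 := by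
  obtain ⟨h, hh⟩ : ∃ h : F, 2 * h = 1 := ⟨2⁻¹, mul_inv_cancel₀ h2⟩
  obtain ⟨i, i00, i01, i10, i11⟩ : ∃ i : Matrix.SpecialLinearGroup (Fin 2) F, i.1 0 0 = 0 ∧ i.1 0 1 = 1 ∧
      i.1 1 0 = -1 ∧ i.1 1 1 = 0 := ⟨⟨!![0, 1; -1, 0], by simp [Matrix.det_fin_two]⟩, rfl, rfl, rfl, rfl⟩
  obtain ⟨k, k00, k01, k10, k11⟩ : ∃ i : Matrix.SpecialLinearGroup (Fin 2) F, i.1 0 0 = a ∧ i.1 0 1 = b ∧
      i.1 1 0 = b ∧ i.1 1 1 = -a := ⟨⟨!![a, b; b, -a], by
    simp only [Matrix.det_fin_two, Matrix.of_apply, Matrix.cons_val', Matrix.cons_val_zero, Matrix.cons_val_one,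
      Matrix.cons_val_fin_one]
    linear_combination -hab⟩, rfl, rfl, rfl, rfl⟩
  obtain ⟨x, x00, x01, x10, x11⟩ : ∃ i : Matrix.SpecialLinearGroup (Fin 2) F, i.1 0 0 = -(1 + a + b) * h ∧
      i.1 0 1 = -(1 + b - a) * h ∧ i.1 1 0 = -(-1 + b - a) * h ∧ i.1 1 1 = -(1 - a - b) * h :=
    ⟨⟨!![-(1 + a + b) * h, -(1 + b - a) * h; -(-1 + b - a) * h, -(1 - a - b) * h], by
      simp only [Matrix.det_fin_two, Matrix.of_apply, Matrix.cons_val', Matrix.cons_val_zero, Matrix.cons_val_one,
        Matrix.cons_val_fin_one]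
      linear_combination (-2 * h ^ 2) * hab + (2 * h + 1) * hh⟩, rfl, rfl, rfl, rfl⟩
  have ht : x.1 0 0 + x.1 1 1 = -1 := by
    rw [x00, x11]
    linear_combination -hh
  have hd : x.1 0 0 * x.1 1 1 - x.1 0 1 * x.1 1 0 = 1 := by
    have := x.2
    rwa [Matrix.det_fin_two] at this
  refine ⟨i, k, x, ?_, ?_, ?_, ?_, ?_, ?_, ?_⟩
  · apply ext2 <;> rw [entry, neg_entry] <;> simp only [one00, one01, one10, one11, i00, i01, i10, i11] <;> ring
  · apply ext2 <;> rw [entry, neg_entry] <;> simp only [one00, one01, one10, one11, k00, k01, k10, k11]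
    · linear_combination hab
    · ring
    · ring
    · linear_combination hab
  · apply ext2 <;> rw [entry, neg_entry, entry] <;> simp only [i00, i01, i10, i11, k00, k01, k10, k11] <;> ring
  · apply ext2 <;> rw [entry, entry, entry] <;> simp only [one00, one01, one10, one11]
    · linear_combination (x.1 0 0 ^ 2 + x.1 0 1 * x.1 1 0 - x.1 0 0) * ht + (1 - x.1 0 0) * hd
    · linear_combination (x.1 0 1 * (x.1 0 0 + x.1 1 1) - x.1 0 1) * ht - x.1 0 1 * hd
    · linear_combination (x.1 1 0 * (x.1 0 0 + x.1 1 1) - x.1 1 0) * ht - x.1 1 0 * hd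
    · linear_combination (x.1 1 1 ^ 2 + x.1 0 1 * x.1 1 0 - x.1 1 1) * ht + (1 - x.1 1 1) * hd
  · apply ext2 <;> rw [entry, entry] <;>
      simp only [i00, i01, i10, i11, k00, k01, k10, k11, x00, x01, x10, x11]
    · linear_combination h * hab
    · linear_combination -h * hab
    · linear_combination h * hab
    · linear_combination h * hab
  · apply ext2 <;> rw [entry, entry, entry, entry] <;>
      simp only [i00, i01, i10, i11, k00, k01, k10, k11, x00, x01, x10, x11] <;> ring
  · intro g h1 h3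
    have e1 : ∀ r s, (g * i).1 r s = (i * g).1 r s := fun r s => by rw [h1]
    have e3 : ∀ r s, (g * k).1 r s = (k * g).1 r s := fun r s => by rw [h3]
    have f1 := e1 0 0
    have f2 := e1 0 1
    have f3 := e3 0 0
    have f4 := e3 0 1
    simp only [entry, i00, i01, i10, i11, k00, k01, k10, k11] at f1 f2 f3 f4
    have hdet : g.1 0 0 * g.1 1 1 - g.1 0 1 * g.1 1 0 = 1 := by
      have := g.2
      rwa [Matrix.det_fin_two] at this
    have g10 : g.1 1 0 = - g.1 0 1 := by linear_combination -f1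
    have g11 : g.1 1 1 = g.1 0 0 := by linear_combination -f2
    rw [g10] at f3
    rw [g11] at f4
    have hqb : g.1 0 1 * b = 0 := by
      have : 2 * (g.1 0 1 * b) = 0 := by linear_combination f3
      exact (mul_eq_zero.1 this).resolve_left h2
    have hqa : g.1 0 1 * a = 0 := by
      have : 2 * (g.1 0 1 * a) = 0 := by linear_combination -f4
      exact (mul_eq_zero.1 this).resolve_left h2
    have hq : g.1 0 1 = 0 := by
      have : g.1 0 1 * (a ^ 2 + b ^ 2) = 0 := by linear_combination a * hqa + b * hqb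
      rw [hab] at this
      simpa using this
    rw [hq, g11, zero_mul, sub_zero] at hdet
    have hp : (g.1 0 0 - 1) * (g.1 0 0 + 1) = 0 := by linear_combination hdet
    rcases mul_eq_zero.1 hp with h5 | h5
    · left
      apply ext2
      · rw [one00]; linear_combination h5
      · rw [one01, hq]
      · rw [one10, g10, hq, neg_zero]
      · rw [one11, g11]; linear_combination h5
    · right
      apply ext2 <;> rw [neg_entry]
      · rw [one00]; linear_combination h5
      · rw [one01, hq, neg_zero]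
      · rw [one10, g10, hq]
      · rw [one11, g11]; linear_combination h5
end sl

/-! ### the case `q ≠ 3` -/

section ne

variable {X : Type u} [Group X] [Finite X]

set_option linter.unusedSectionVars false

theorem isPGroup_ik {i k m : X} (hi : i * i = m) (hk : k * k = m) (hm : m * m = 1) (hmi : m * i = i * m)
    (hik : i * k = m * (k * i)) : IsPGroup 2 (zpowers i ⊔ zpowers k : Subgroup X) := by
  have h4 : ∀ a : X, a * a = m → IsPGroup 2 (zpowers a) := by
    intro a ha
    rintro ⟨g, hg⟩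
    obtain ⟨n, rfl⟩ := mem_zpowers_iff.1 hg
    refine ⟨2, Subtype.ext ?_⟩
    change (a ^ n) ^ 2 ^ 2 = 1
    have h1 : a ^ (4 : ℤ) = 1 := by
      have : a ^ (4 : ℤ) = (a * a) * (a * a) := by
        rw [show (4 : ℤ) = 1 + 1 + 1 + 1 by norm_num, zpow_add, zpow_add, zpow_add, zpow_one]
        simp only [mul_assoc]
      rw [this, ha, hm]
    rw [← zpow_natCast, ← zpow_mul, mul_comm, zpow_mul]
    norm_num [h1]
  refine IsPGroup.to_sup_of_normal_left' (h4 i hi) (h4 k hk) ?_
  rw [zpowers_le, mem_normalizer_iff]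
  have hinv : k * i * k⁻¹ = i⁻¹ := by
    have h1 : k * i = m * (i * k) := by
      rw [hik, ← mul_assoc, hm, one_mul]
    rw [h1]
    have h2 : m * (i * k) * k⁻¹ = m * i := by group
    rw [h2]
    rw [eq_inv_iff_mul_eq_one, mul_assoc, hi, hm]
  have hz : ∀ n : ℤ, k * i ^ n * k⁻¹ = i ^ (-n) := by
    intro n
    rw [zpow_neg, ← inv_zpow, ← hinv, conj_zpow]
  have hinv' : k⁻¹ * i * k = i⁻¹ := by
    have h1 : i * k = k * i⁻¹ := by
      rw [← hinv]
      have h3 : k * (k * i * k⁻¹) = (k * k) * i * k⁻¹ := by group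
      rw [h3, hk, hmi, mul_assoc, ← hk]
      group
    rw [mul_assoc, h1, inv_mul_cancel_left]
  intro g
  constructor
  · intro hg
    obtain ⟨n, rfl⟩ := mem_zpowers_iff.1 hg
    exact mem_zpowers_iff.2 ⟨-n, (hz n).symm⟩
  · intro hg
    obtain ⟨n, hn⟩ := mem_zpowers_iff.1 hg
    have h1 : g = k⁻¹ * (k * g * k⁻¹) * k := by group
    rw [h1, ← hn]
    have h2 : k⁻¹ * i ^ n * k = (k⁻¹ * i * k) ^ n := by
      have := conj_zpow (a := k⁻¹) (b := i) (i := n)
      rw [inv_inv] at this
      exact this.symm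
    rw [h2, hinv']
    exact mem_zpowers_iff.2 ⟨-n, by rw [zpow_neg, inv_zpow]⟩

/-- **`q ≠ 3`**: an element commuting with the quaternion group has a centralizer which is not `2`-nilpotent. -/
theorem core_ne {J : Subgroup X} {F : Type} [Field F] [Fintype F] (ho : Odd (Fintype.card F))
    (h3 : Fintype.card F ≠ 3) (hJ : J.IsSubnormal) (e : J ≃* Matrix.SpecialLinearGroup (Fin 2) F)
    {i k x : Matrix.SpecialLinearGroup (Fin 2) F} (hi : i * i = -1) (hk : k * k = -1) (hik : i * k = -(k * i))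
    (hx : x * x * x = 1) (hxi : x * i = k * x) (hxk : x * k = i * k * x)
    (hc : ∀ g : Matrix.SpecialLinearGroup (Fin 2) F, g * i = i * g → g * k = k * g → g = 1 ∨ g = -1)
    {z : X} (hzi : z * (e.symm i : X) = (e.symm i : X) * z) (hzk : z * (e.symm k : X) = (e.symm k : X) * z) :
    ¬ NC (centralizer ({z} : Set X)) := by
  intro hNC
  have h2 : (2 : F) ≠ 0 := Cfsg.Agent.OddHalf.LongSL.two_ne_of_odd ho
  have hm1 : (-1 : Matrix.SpecialLinearGroup (Fin 2) F) ≠ 1 := Cfsg.Agent.OddHalf.LongSL.neg_one_ne h2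
  have hcomp : IsComponent J := ⟨hJ, ComponentNormalize.quasisimple_congr e.symm (quasisimple_SL2 ho h3)⟩
  have hco : ∀ g h : Matrix.SpecialLinearGroup (Fin 2) F, ((e.symm (g * h) : J) : X) = e.symm g * e.symm h := by
    intro g h
    rw [map_mul]; rfl
  have hik' : i * k ≠ k * i := by
    intro h
    rw [h] at hik
    have h4 : (-1 : Matrix.SpecialLinearGroup (Fin 2) F) * (k * i) = 1 * (k * i) := by
      rw [neg_one_mul, one_mul]; exact hik.symm
    exact hm1 (mul_right_cancel h4)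
  -- `z` normalises `J`
  have hzJ : J.map (MulAut.conj z).toMonoidHom = J := by
    by_contra hne
    have hcomp' := isComponent_conj z hcomp
    have h4 := component_commutator_eq_bot_of_ne hcomp' hcomp hne
    have h5 : ((e.symm i : J) : X) ∈ J.map (MulAut.conj z).toMonoidHom := by
      refine ⟨(e.symm i : X), (e.symm i).2, ?_⟩
      change z * (e.symm i : X) * z⁻¹ = _
      rw [hzi, mul_inv_cancel_right]
    have h6 := (commutator_eq_bot_iff_le_centralizer.1 h4) h5
    have h7 := mem_centralizer_iff.1 h6 _ (e.symm k).2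
    apply hik'
    apply e.symm.injective
    apply Subtype.ext
    rw [hco, hco]
    exact h7.symm
  -- `z` commutes with `x`
  set xx : X := ((e.symm x : J) : X) with hxx
  have hxJ : xx ∈ J := (e.symm x).2
  have hzx : z * xx * z⁻¹ ∈ J := by
    have : z * xx * z⁻¹ ∈ J.map (MulAut.conj z).toMonoidHom := ⟨xx, hxJ, rfl⟩
    rwa [hzJ] at this
  set c : J := ⟨z * xx * z⁻¹, hzx⟩ * (e.symm x)⁻¹ with hcdef
  have hcX : (c : X) = z * xx * z⁻¹ * xx⁻¹ := rfl
  have e1 : xx * (e.symm i : X) * xx⁻¹ = e.symm k := by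
    rw [hxx, ← hco, hxi, hco]; group
  have e2 : xx * (e.symm k : X) * xx⁻¹ = (e.symm i : X) * e.symm k := by
    rw [hxx, ← hco, hxk, hco, hco]; group
  have hx3 : xx * xx * xx = 1 := by
    rw [hxx, ← hco, ← hco, hx, map_one]; rfl
  have hci : ∀ y : X, z * y = y * z → z * (xx⁻¹ * y * xx) = (xx⁻¹ * y * xx) * z →
      (c : X) * y = y * c := by
    intro y hy hy'
    have h4 : z⁻¹ * (xx⁻¹ * y * xx) * z = xx⁻¹ * y * xx := by
      rw [mul_assoc, ← hy', inv_mul_cancel_left]
    have h4' : z⁻¹ * (xx⁻¹ * y * xx) = (xx⁻¹ * y * xx) * z⁻¹ := by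
      rw [eq_mul_inv_iff_mul_eq]; exact h4
    rw [hcX]
    calc z * xx * z⁻¹ * xx⁻¹ * y = z * xx * (z⁻¹ * (xx⁻¹ * y * xx)) * xx⁻¹ := by group
      _ = z * xx * ((xx⁻¹ * y * xx) * z⁻¹) * xx⁻¹ := by rw [h4']
      _ = (z * y) * xx * z⁻¹ * xx⁻¹ := by group
      _ = y * z * xx * z⁻¹ * xx⁻¹ := by rw [hy]
      _ = _ := by group
  -- the conjugates of `i`, `k` under `x⁻¹`
  have f1 : xx⁻¹ * (e.symm k : X) * xx = e.symm i := by
    rw [← e1]; group
  have f2 : xx⁻¹ * (e.symm i : X) * xx = (e.symm k : X) * ((e.symm i : X))⁻¹ := by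
    have h4 : (e.symm i : X) = (xx * (e.symm k : X) * xx⁻¹) * (e.symm k : X)⁻¹ := by rw [e2]; group
    have h5 : xx⁻¹ * (e.symm i : X) * xx = (e.symm k : X) * (xx⁻¹ * (e.symm k : X) * xx)⁻¹ := by
      conv_lhs => rw [h4]
      group
    rw [h5, f1]
  have g1 : (c : X) * e.symm i = e.symm i * c := by
    apply hci _ hzi
    rw [f2]
    have h4 : Commute z ((e.symm k : X) * ((e.symm i : X))⁻¹) :=
      (show Commute z (e.symm k : X) from hzk).mul_right (show Commute z (e.symm i : X) from hzi).inv_right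
    exact h4
  have g2 : (c : X) * e.symm k = e.symm k * c := by
    apply hci _ hzk
    rw [f1]
    exact hzi
  have hcc := hc (e c) (by
    apply e.symm.injective
    apply Subtype.ext
    rw [hco, hco, e.symm_apply_apply]
    exact g1) (by
    apply e.symm.injective
    apply Subtype.ext
    rw [hco, hco, e.symm_apply_apply]
    exact g2)
  have hzxc : z * xx = xx * z := by
    rcases hcc with h4 | h4
    · have h5 : c = 1 := by rw [← e.symm_apply_apply c, h4, map_one]
      have h6 : z * xx * z⁻¹ * xx⁻¹ = 1 := by rw [← hcX, h5]; rfl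
      rw [mul_inv_eq_one, mul_inv_eq_iff_eq_mul] at h6
      exact h6
    · exfalso
      have h5 : (c : X) = e.symm (-1) := by rw [← h4, e.symm_apply_apply]
      set mm : X := ((e.symm (-1 : Matrix.SpecialLinearGroup (Fin 2) F) : J) : X) with hmm
      have h6 : z * xx * z⁻¹ = mm * xx := by rw [← h5, hcX]; group
      have h7 : mm * xx = xx * mm := by
        rw [hmm, hxx, ← hco, ← hco, neg_one_mul, mul_neg_one]
      have h8 : mm * mm = 1 := by
        rw [hmm, ← hco, neg_one_mul, neg_neg, map_one]; rfl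
      have h9 : (z * xx * z⁻¹) * (z * xx * z⁻¹) * (z * xx * z⁻¹) = 1 := by
        have : (z * xx * z⁻¹) * (z * xx * z⁻¹) * (z * xx * z⁻¹) = z * (xx * xx * xx) * z⁻¹ := by group
        rw [this, hx3]; group
      rw [h6] at h9
      have h10 : mm * xx * (mm * xx) * (mm * xx) = mm := by
        have : mm * xx * (mm * xx) * (mm * xx) = mm * (xx * mm) * xx * (mm * xx) := by group
        rw [this, ← h7]
        have : mm * (mm * xx) * xx * (mm * xx) = (mm * mm) * xx * xx * (mm * xx) := by group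
        rw [this, h8, one_mul, h7]
        have : xx * xx * (xx * mm) = (xx * xx * xx) * mm := by group
        rw [this, hx3, one_mul]
      rw [h10] at h9
      apply hm1
      apply e.symm.injective
      rw [map_one]
      exact Subtype.ext h9
  -- the contradiction
  have hmm1 : (e.symm (-1 : Matrix.SpecialLinearGroup (Fin 2) F) : X) * e.symm (-1) = 1 := by
    rw [← hco, neg_one_mul, neg_neg, map_one]; rfl
  have hp : IsPGroup 2 (zpowers (e.symm i : X) ⊔ zpowers (e.symm k : X) : Subgroup X) := by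
    refine isPGroup_ik (m := e.symm (-1)) ?_ ?_ hmm1 ?_ ?_
    · rw [← hco, hi]
    · rw [← hco, hk]
    · rw [← hco, ← hco, neg_one_mul, mul_neg_one]
    · rw [← hco, ← hco, ← hco, hik, neg_one_mul]
  have hY : (zpowers (e.symm i : X) ⊔ zpowers (e.symm k : X) : Subgroup X) ≤ centralizer ({z} : Set X) := by
    rw [sup_le_iff, zpowers_le, zpowers_le, mem_centralizer_singleton_iff, mem_centralizer_singleton_iff]
    exact ⟨hzi.symm, hzk.symm⟩
  have hxo : ¬ 2 ∣ orderOf xx := by
    have h4 : orderOf xx ∣ 3 := orderOf_dvd_of_pow_eq_one (by rw [pow_succ, sq]; exact hx3)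
    intro h5
    have := h5.trans h4
    omega
  have hfin := hNC.comm' hY hp (x := xx) (mem_centralizer_singleton_iff.2 hzxc.symm) hxo (by
    have h4 : (zpowers (e.symm i : X) ⊔ zpowers (e.symm k : X) : Subgroup X) ≤
        (zpowers (e.symm i : X) ⊔ zpowers (e.symm k : X) : Subgroup X).comap (MulAut.conj xx).toMonoidHom := by
      rw [sup_le_iff, zpowers_le, zpowers_le, mem_comap, mem_comap]
      constructor
      · change xx * (e.symm i : X) * xx⁻¹ ∈ _
        rw [e1]
        exact mem_sup_right (mem_zpowers _)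
      · change xx * (e.symm k : X) * xx⁻¹ ∈ _
        rw [e2]
        exact mul_mem (mem_sup_left (mem_zpowers _)) (mem_sup_right (mem_zpowers _))
    exact fun y hy => h4 hy) (mem_sup_left (mem_zpowers (e.symm i : X)))
  have h4 : (e.symm i : X) = e.symm k := by
    rw [← e1, hfin, mul_inv_cancel_right]
  have h5 : i = k := e.symm.injective (Subtype.ext h4)
  exact hik' (by rw [h5])

end ne

/-! ### the case `q = 3` -/

section three

variable {X : Type u} [Group X] [Finite X]

set_option linter.unusedSectionVars false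

theorem sl3_a : ∀ u : S3, (∀ y : S3, y * y * (y * y) = 1 → u * y = y * u) → u * u = 1 := by
  decide +kernel

theorem core_three {J : Subgroup X} (hJ : J.IsSubnormal) (e : J ≃* S3) {z : X} (hz2 : z * z = 1)
    (hz : ∀ y ∈ pCore 2 X, z * y = y * z) : ¬ NC (centralizer ({z} : Set X)) := by
  intro hNC
  have f3 : Fact (Nat.Prime 3) := ⟨by norm_num⟩
  obtain ⟨c, hcJ, hc3, hc1⟩ := exists_three e
  have hYp : IsPGroup 2 (QQ4 J) := by
    rintro ⟨y, hy⟩
    refine ⟨2, Subtype.ext ?_⟩
    change y ^ 2 ^ 2 = 1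
    have := ((mem_QQ4 e).1 hy).2
    rw [← this]
    simp only [pow_succ, pow_zero, one_mul, mul_assoc, Nat.reduceMul]
  have hYn : ∀ g ∈ J, ∀ y ∈ QQ4 J, g * y * g⁻¹ ∈ QQ4 J := by
    intro g hg y hy
    rw [mem_QQ4 e] at hy ⊢
    refine ⟨J.mul_mem (J.mul_mem hg hy.1) (J.inv_mem hg), ?_⟩
    have : g * y * g⁻¹ * (g * y * g⁻¹) * (g * y * g⁻¹ * (g * y * g⁻¹)) = g * (y * y * (y * y)) * g⁻¹ := by group
    rw [this, hy.2]
    group
  have hYs : (QQ4 J).IsSubnormal := by
    refine IsSubnormal.step _ J (QQ4_le e) hJ ⟨fun y hy g => ?_⟩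
    rw [mem_subgroupOf] at hy ⊢
    exact hYn g g.2 y hy
  have hYc : QQ4 J ≤ pCore 2 X := Cfsg.Agent.PLocal.SubnormalCore.le_pCore_of_isSubnormal hYs hYp
  set C0 : Subgroup X := centralizer (pCore 2 X : Set X) with hC0
  have hC0n : C0.Normal := inferInstance
  have hC0Y : ∀ u ∈ C0, ∀ y ∈ QQ4 J, u * y = y * u := fun u hu y hy => (mem_centralizer_iff.1 hu y (hYc hy)).symm
  have hzC : z ∈ C0 := by
    rw [hC0, mem_centralizer_iff]
    intro y hy
    exact (hz y hy).symm
  set Y0 : Subgroup X := C0 ⊔ zpowers c with hY0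
  have hcY0 : c ∈ Y0 := mem_sup_right (mem_zpowers c)
  -- `J ∩ Y₀` commutes with `c`
  have hJY : ∀ g ∈ J, g ∈ Y0 → g * c = c * g := by
    intro g hgJ hgY
    rw [hY0, mem_sup_of_normal_left] at hgY
    obtain ⟨u, hu, w, hw, hg⟩ := hgY
    obtain ⟨n, rfl⟩ := mem_zpowers_iff.1 hw
    have huJ : u ∈ J := by
      have : u = g * (c ^ n)⁻¹ := by rw [← hg]; group
      rw [this]
      exact J.mul_mem hgJ (J.inv_mem (J.zpow_mem hcJ n))
    have h1 : e ⟨u, huJ⟩ * e ⟨u, huJ⟩ = 1 := by
      apply sl3_a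
      intro y hy
      have h2 : ((e.symm y : J) : X) ∈ QQ4 J := by
        rw [mem_QQ4 e]
        refine ⟨(e.symm y).2, ?_⟩
        have h3 : e.symm y * e.symm y * (e.symm y * e.symm y) = 1 := by
          rw [← map_mul, ← map_mul, hy, map_one]
        exact congrArg Subtype.val h3
      have h3 := hC0Y u hu _ h2
      have h4 : (⟨u, huJ⟩ : J) * e.symm y = e.symm y * ⟨u, huJ⟩ := Subtype.ext h3
      have h5 := congrArg e h4
      rwa [map_mul, map_mul, e.apply_symm_apply] at h5
    have h2 : u * c = c * u := by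
      have h3 := sl3_fact9 _ (e ⟨c, hcJ⟩) h1
      rw [← map_mul, ← map_mul] at h3
      exact congrArg Subtype.val (e.injective h3)
    rw [← hg, mul_assoc, ← mul_assoc c u, ← h2, mul_assoc]
    congr 1
    rw [← zpow_add_one, ← zpow_one_add, add_comm]
  have hsub1 : ((J.subgroupOf Y0)).IsSubnormal := hJ.subgroupOf
  have hsub : ((zpowers c).subgroupOf Y0).IsSubnormal := by
    refine IsSubnormal.step _ (J.subgroupOf Y0) ?_ hsub1 ⟨fun y hy g => ?_⟩
    · intro y hy
      rw [mem_subgroupOf] at hy ⊢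
      exact (zpowers_le.2 hcJ) hy
    · rw [mem_subgroupOf, mem_subgroupOf] at hy ⊢
      obtain ⟨n, hn⟩ := mem_zpowers_iff.1 hy
      have hgJ : ((g : Y0) : X) ∈ J := mem_subgroupOf.1 g.2
      have h1 : Commute ((g : Y0) : X) c := hJY _ hgJ (g : Y0).2
      refine mem_zpowers_iff.2 ⟨n, ?_⟩
      change c ^ n = ((g : Y0) : X) * ((y : Y0) : X) * ((g : Y0) : X)⁻¹
      rw [← hn, (h1.zpow_right n).eq, mul_inv_cancel_right]
  have hcp : IsPGroup 3 ((zpowers c).subgroupOf Y0) := by
    refine IsPGroup.comap_of_injective ?_ Y0.subtype Y0.subtype_injective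
    exact IsPGroup.of_card (n := 1) (by
      rw [Nat.card_zpowers, pow_one]
      exact orderOf_eq_prime (by rw [pow_succ, sq]; exact hc3) hc1)
  have hcore := Cfsg.Agent.PLocal.SubnormalCore.le_pCore_of_isSubnormal hsub hcp
  have hcE : (⟨c, hcY0⟩ : Y0) ∈ pCore 3 Y0 := hcore (mem_subgroupOf.2 (mem_zpowers c))
  have hEp : IsPGroup 3 (pCore 3 Y0) := Cfsg.Agent.PLocal.PConstrained.isPGroup_pCore 3 Y0
  have hEn : (pCore 3 Y0).Normal := inferInstance
  set E3 : Subgroup X := (pCore 3 Y0).map Y0.subtype with hE3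
  have hE3p : IsPGroup 3 E3 := hEp.map _
  have hzY : z ∈ Y0 := mem_sup_left hzC
  have hE3n : ∀ g ∈ Y0, ∀ d ∈ E3, g * d * g⁻¹ ∈ E3 := by
    rintro g hg _ ⟨d, hd, rfl⟩
    exact ⟨⟨g, hg⟩ * d * ⟨g, hg⟩⁻¹, hEn.conj_mem d hd ⟨g, hg⟩, rfl⟩
  have hcE3 : c ∈ E3 := ⟨⟨c, hcY0⟩, hcE, rfl⟩
  have hD3p : IsPGroup 3 (E3 ⊓ C0 : Subgroup X) := hE3p.to_le inf_le_left
  have f2 : Fact (Nat.Prime 2) := ⟨Nat.prime_two⟩
  obtain ⟨d, hd, hzd⟩ := Cfsg.Agent.SignalizersComponents.CoprimeBasic.exists_fixed_in_coset_of_pow (p := 2) z 1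
    (by rw [pow_one, sq, hz2]) (E3 ⊓ C0) (by
      obtain ⟨n, hn⟩ := IsPGroup.iff_card.1 hD3p
      rw [hn]
      intro h
      have := (Nat.prime_dvd_prime_iff_eq Nat.prime_two f3.out).1 (Nat.prime_two.dvd_of_dvd_pow h)
      omega) (fun d hd => ⟨hE3n z hzY d hd.1, hC0n.conj_mem d hd.2 z⟩) c (by
      refine ⟨E3.mul_mem (E3.inv_mem hcE3) (hE3n z hzY c hcE3), ?_⟩
      have : c⁻¹ * (z * c * z⁻¹) = (c⁻¹ * z * c⁻¹⁻¹) * z⁻¹ := by group
      rw [this]
      exact C0.mul_mem (hC0n.conj_mem z hzC c⁻¹) (C0.inv_mem hzC))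
  have hodd : ¬ 2 ∣ orderOf (c * d) := by
    obtain ⟨n, hn⟩ := (IsPGroup.iff_orderOf.1 hE3p) ⟨c * d, E3.mul_mem hcE3 hd.1⟩
    rw [Subgroup.orderOf_mk] at hn
    rw [hn]
    intro h
    have := (Nat.prime_dvd_prime_iff_eq Nat.prime_two f3.out).1 (Nat.prime_two.dvd_of_dvd_pow h)
    omega
  have hconj : ∀ y ∈ QQ4 J, c * d * y * (c * d)⁻¹ = c * y * c⁻¹ := by
    intro y hy
    have h1 := hC0Y d hd.2 y hy
    have h2 : c * d * y * (c * d)⁻¹ = c * (d * y) * d⁻¹ * c⁻¹ := by group
    rw [h2, h1]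
    group
  have hfin : ∀ y ∈ QQ4 J, c * y = y * c := by
    intro y hy
    have h1 := hNC.comm' (Y := QQ4 J) (fun w hw => mem_centralizer_singleton_iff.2 (hz w (hYc hw)).symm) hYp
      (x := c * d) (mem_centralizer_singleton_iff.2 hzd.symm) hodd
      (fun w hw => by rw [hconj w hw]; exact hYn c hcJ w hw) hy
    have h2 := hconj y hy
    rw [h1, mul_inv_cancel_right, eq_comm, mul_inv_eq_iff_eq_mul] at h2
    exact h2
  obtain ⟨a, ha, b, hb, hab⟩ := nonabelian e
  have htriv : ∀ y ∈ QQ4 J, y = 1 := by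
    intro y hy
    obtain ⟨u, hu, v, hv, h1⟩ := exists_comm e hcJ hc3 hc1 hy
    have h2 : u * c * u⁻¹ * c⁻¹ = 1 := by rw [← hfin u hu]; group
    have h3 : v * c * v⁻¹ * c⁻¹ = 1 := by rw [← hfin v hv]; group
    rw [h1, h2, h3, one_mul]
  exact hab (by rw [htriv a ha, htriv b hb])

end three

/-! ### the statement -/

theorem not_long {S : Type u} [Group S] [Finite S] (h : Loc S) {q : ℕ} :
    ¬ Cfsg.Agent.OddHalf.LongSL.HasLong q S := by
  rintro ⟨j, J, hj, hjJ, hJD, hsub, F, i1, i2, hF, ho, ⟨e⟩⟩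
  rw [← hF] at ho
  have f2 : Fact (Nat.Prime 2) := ⟨Nat.prime_two⟩
  set D : Subgroup S := centralizer ({j} : Set S) with hD
  -- an involution commuting with a given Sylow `2`-subgroup of `D`
  have hP : ∀ P : Sylow 2 D, ∃ z : D, z * z = 1 ∧ (∀ y ∈ P, z * y = y * z) ∧ NC (centralizer ({z} : Set D)) := by
    intro P
    obtain ⟨z0, Q, hz0, hz0Q, hcomm, hNC⟩ := h.exists_z
    obtain ⟨Q', hQ'⟩ := (P.isPGroup'.map D.subtype).exists_le_sylow
    obtain ⟨g, hg⟩ := MulAction.exists_smul_eq S Q Q'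
    have hjP : (⟨j, hJD hjJ⟩ : D) ∈ (P : Subgroup D) := by
      have h1 : zpowers (⟨j, hJD hjJ⟩ : D) ≤ pCore 2 D := by
        apply Cfsg.Agent.PLocal.SubnormalCore.le_pCore_of_isSubnormal
        · have hn : (zpowers (⟨j, hJD hjJ⟩ : D)).Normal := by
            refine ⟨fun x hx g => ?_⟩
            obtain ⟨n, rfl⟩ := mem_zpowers_iff.1 hx
            have h2 : Commute g (⟨j, hJD hjJ⟩ : D) := Subtype.ext (mem_centralizer_singleton_iff.1 g.2)
            rw [(h2.zpow_right n).eq, mul_inv_cancel_right]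
            exact mem_zpowers_iff.2 ⟨n, rfl⟩
          exact hn.isSubnormal
        · exact IsPGroup.of_card (n := 1) (by rw [Nat.card_zpowers, Subgroup.orderOf_mk, hj, pow_one])
      exact Cfsg.Agent.Lib.Cores.pCore_le_sylow P (h1 (mem_zpowers _))
    have hQcomm : ∀ y ∈ Q', (g * z0 * g⁻¹) * y = y * (g * z0 * g⁻¹) := by
      intro y hy
      have h1 : g⁻¹ * y * g ∈ Q := by
        have h2 : y ∈ (Q' : Subgroup S) := hy
        rw [← hg, Sylow.coe_subgroup_smul, Subgroup.mem_pointwise_smul_iff_inv_smul_mem] at h2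
        have h3 : ((MulAut.conj g)⁻¹ • y : S) = g⁻¹ * y * g := by
          change (MulAut.conj g)⁻¹ y = _
          rw [← map_inv, MulAut.conj_apply, inv_inv]
        rw [h3] at h2
        exact h2
      have h2 := hcomm _ h1
      calc (g * z0 * g⁻¹) * y = g * (z0 * (g⁻¹ * y * g)) * g⁻¹ := by group
        _ = g * ((g⁻¹ * y * g) * z0) * g⁻¹ := by rw [h2]
        _ = _ := by group
    have hzD : g * z0 * g⁻¹ ∈ D := by
      rw [hD, mem_centralizer_singleton_iff]
      exact hQcomm j (hQ' ⟨⟨j, hJD hjJ⟩, hjP, rfl⟩)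
    have hNC' : NC (centralizer ({g * z0 * g⁻¹} : Set S)) := by
      have h1 : (centralizer ({z0} : Set S)).map (MulAut.conj g).toMonoidHom = centralizer ({g * z0 * g⁻¹} : Set S) := by
        ext y
        rw [mem_map_equiv, mem_centralizer_singleton_iff, mem_centralizer_singleton_iff]
        change (MulAut.conj g).symm y * z0 = z0 * (MulAut.conj g).symm y ↔ _
        rw [MulAut.conj_symm_apply]
        constructor
        · intro h2
          calc y * (g * z0 * g⁻¹) = g * ((g⁻¹ * y * g) * z0) * g⁻¹ := by group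
            _ = g * (z0 * (g⁻¹ * y * g)) * g⁻¹ := by rw [h2]
            _ = _ := by group
        · intro h2
          calc g⁻¹ * y * g * z0 = g⁻¹ * (y * (g * z0 * g⁻¹)) * g := by group
            _ = g⁻¹ * (g * z0 * g⁻¹ * y) * g := by rw [h2]
            _ = _ := by group
      rw [← h1]
      exact (NC.congr ((centralizer ({z0} : Set S)).equivMapOfInjective _ (MulAut.conj g).injective)).1 hNC
    refine ⟨⟨g * z0 * g⁻¹, hzD⟩, ?_, ?_, ?_⟩
    · apply Subtype.ext
      change g * z0 * g⁻¹ * (g * z0 * g⁻¹) = 1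
      have h1 : z0 * z0 = 1 := by rw [← sq, ← hz0, pow_orderOf_eq_one]
      have h2 : g * z0 * g⁻¹ * (g * z0 * g⁻¹) = g * (z0 * z0) * g⁻¹ := by group
      rw [h2, h1]
      group
    · intro y hy
      exact Subtype.ext (hQcomm y (hQ' ⟨y, hy, rfl⟩))
    · let f : ↥(centralizer ({(⟨g * z0 * g⁻¹, hzD⟩ : D)} : Set D)) →* ↥(centralizer ({g * z0 * g⁻¹} : Set S)) :=
        (D.subtype.comp (centralizer ({(⟨g * z0 * g⁻¹, hzD⟩ : D)} : Set D)).subtype).codRestrict _ (by
          rintro ⟨x, hx⟩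
          rw [mem_centralizer_singleton_iff] at hx ⊢
          exact congrArg Subtype.val hx)
      refine NC.of_injective f ?_ hNC'
      intro a b hab
      apply Subtype.ext
      apply Subtype.ext
      exact congrArg (fun x : ↥(centralizer ({g * z0 * g⁻¹} : Set S)) => (x : S)) hab
  set e' : J.subgroupOf D ≃* Matrix.SpecialLinearGroup (Fin 2) F := (subgroupOfEquivOfLe hJD).trans e with he'
  by_cases h3 : Fintype.card F = 3
  · obtain ⟨f⟩ := equiv_S3 h3
    obtain ⟨z, hz2, hz, hNC⟩ := hP default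
    exact core_three hsub (e'.trans f) hz2
      (fun y hy => hz y (Cfsg.Agent.Lib.Cores.pCore_le_sylow (default : Sylow 2 D) hy)) hNC
  · have h2 : (2 : F) ≠ 0 := Cfsg.Agent.OddHalf.LongSL.two_ne_of_odd ho
    obtain ⟨a, b, hab⟩ := Cfsg.Agent.ClassicalGeometry.QuatPair.exists_sq_add_sq_eq_neg_one h2
    obtain ⟨i, k, x, hi, hk, hik, hx, hxi, hxk, hc⟩ := exists_ikx h2 hab
    have hco : ∀ g h : Matrix.SpecialLinearGroup (Fin 2) F,
        ((e'.symm (g * h) : J.subgroupOf D) : D) = e'.symm g * e'.symm h := by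
      intro g h
      rw [map_mul]; rfl
    have hp : IsPGroup 2 (zpowers (e'.symm i : D) ⊔ zpowers (e'.symm k : D) : Subgroup D) := by
      refine isPGroup_ik (m := e'.symm (-1)) ?_ ?_ ?_ ?_ ?_
      · rw [← hco, hi]
      · rw [← hco, hk]
      · rw [← hco, neg_one_mul, neg_neg, map_one]; rfl
      · rw [← hco, ← hco, neg_one_mul, mul_neg_one]
      · rw [← hco, ← hco, ← hco, hik, neg_one_mul]
    obtain ⟨P, hP1⟩ := hp.exists_le_sylow
    obtain ⟨z, hz2, hz, hNC⟩ := hP P
    exact core_ne ho h3 hsub e' hi hk hik hx hxi hxk hc (hz _ (hP1 (mem_sup_left (mem_zpowers _))))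
      (hz _ (hP1 (mem_sup_right (mem_zpowers _)))) hNC

end Cfsg.Agent.H559.NotLong
end

-- part: H161/L2Sub
section
/-!
# A simple group `S ≅ PSL(2, q)`, `q` odd, with `Loc S` is in `IsL2` (S4386)
-/

set_option autoImplicit false
set_option linter.unusedSectionVars false

namespace Cfsg.Agent.H161.L2Sub

open Matrix Subgroup Polynomial
open Cfsg.Agent.H584.NC Cfsg.Agent.H688.TransAut
open Cfsg.Agent.ClassicalGeometry Cfsg.Agent.ClassicalGeometry.PSL2Basic
open Cfsg.Agent.ClassicalGeometry.AutPSL.Root Cfsg.Agent.ClassicalGeometry.AutPSL.Auto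
  Cfsg.Agent.ClassicalGeometry.AutPSL.Main

universe u

/-! ### Abelian Sylow 2-subgroups -/

/-- Burnside: a group with an abelian Sylow 2-subgroup whose normalizer is 2-nilpotent is 2-nilpotent. -/
theorem nc_of_abelian {G : Type u} [Group G] [Finite G] (Q : Sylow 2 G)
    (hab : ∀ x ∈ Q, ∀ y ∈ Q, x * y = y * x) (hN : NC (normalizer (Q : Set G))) : NC G := by
  have hle : normalizer ((Q : Subgroup G) : Set G) ≤ centralizer ((Q : Subgroup G) : Set G) := by
    intro g hg
    -- the 2-part and the odd part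
    obtain ⟨k, m, hm, hk⟩ := Nat.exists_eq_two_pow_mul_odd (orderOf_pos g).ne'
    have h1 : g ^ (2 ^ k) ∈ centralizer ((Q : Subgroup G) : Set G) := by
      rw [mem_centralizer_iff]
      intro y hy
      symm
      refine hN.comm' (Y := (Q : Subgroup G)) le_normalizer Q.isPGroup'
        (pow_mem hg _) ?_ ?_ hy
      · rw [orderOf_pow' g (by positivity), hk, Nat.gcd_mul_right_left,
          Nat.mul_div_cancel_left _ (by positivity)]
        exact fun h => (Nat.not_even_iff_odd.2 hm) (even_iff_two_dvd.2 h)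
      · intro y hy
        exact (mem_normalizer_iff.1 (pow_mem hg (2 ^ k)) y).1 hy
    have h2 : g ^ m ∈ (Q : Subgroup G) := by
      have h3 : IsPGroup 2 (zpowers (g ^ m)) := by
        refine IsPGroup.of_card (n := k) ?_
        rw [Nat.card_zpowers, orderOf_pow' g hm.pos.ne', hk, Nat.gcd_mul_left_left,
          Nat.mul_div_cancel _ hm.pos]
      have h4 : IsPGroup 2 ((Q : Subgroup G) ⊔ zpowers (g ^ m) : Subgroup G) := by
        refine IsPGroup.to_sup_of_normal_left' Q.isPGroup' h3 ?_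
        rw [zpowers_le]
        exact pow_mem hg m
      have h5 := Q.is_maximal' h4 le_sup_left
      have h6 : zpowers (g ^ m) ≤ (Q : Subgroup G) ⊔ zpowers (g ^ m) := le_sup_right
      rw [h5] at h6
      exact h6 (mem_zpowers _)
    have h3 : g ^ m ∈ centralizer ((Q : Subgroup G) : Set G) := by
      rw [mem_centralizer_iff]
      intro y hy
      exact hab y hy _ h2
    have hcop : Nat.Coprime (2 ^ k) m := Nat.Coprime.pow_left _ (Nat.coprime_two_left.2 hm)
    have h4 : g = (g ^ (2 ^ k)) ^ (Nat.gcdA (2 ^ k) m) * (g ^ m) ^ (Nat.gcdB (2 ^ k) m) := by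
      have h5 := Nat.gcd_eq_gcd_ab (2 ^ k) m
      rw [hcop.gcd_eq_one] at h5
      rw [← zpow_natCast g (2 ^ k), ← zpow_natCast g m, ← _root_.zpow_mul, ← _root_.zpow_mul, ← _root_.zpow_add, ← h5]
      simp
    rw [h4]
    exact mul_mem (zpow_mem h1 _) (zpow_mem h3 _)
  refine ⟨Q, (MonoidHom.transferSylow Q hle).ker, inferInstance, ?_⟩
  exact MonoidHom.ker_transferSylow_isComplement' Q hle

/-- groups of order `4 mod 8` -/
theorem nc_of_card_four {G : Type u} [Group G] [Finite G] (h4 : Nat.card G % 8 = 4)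
    (hN : ∀ Q : Sylow 2 G, NC (normalizer (Q : Set G))) : NC G := by
  obtain ⟨Q⟩ : Nonempty (Sylow 2 G) := inferInstance
  refine nc_of_abelian Q ?_ (hN Q)
  have h1 : Nat.card Q = 2 ^ (Nat.card G).factorization 2 := Q.card_eq_multiplicity
  have h2 : (Nat.card G).factorization 2 = 2 := by
    have hpos : Nat.card G ≠ 0 := Nat.card_pos.ne'
    apply le_antisymm
    · by_contra hcon
      have h3 : 2 ^ 3 ∣ Nat.card G := (Nat.prime_two.pow_dvd_iff_le_factorization hpos).2 (by omega)
      omega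
    · exact (Nat.prime_two.pow_dvd_iff_le_factorization hpos).1 (by omega)
  rw [h2] at h1
  have h3 : IsMulCommutative Q := IsPGroup.isMulCommutative_of_card_eq_prime_sq h1
  intro x hx y hy
  exact congrArg Subtype.val (h3.1.1 ⟨x, hx⟩ ⟨y, hy⟩)

/-! ### `PSL(2, K)` is not 2-nilpotent -/

theorem transvection_pow {K : Type*} [Field K] {i j : Fin 2} (hij : i ≠ j) (t : K) (n : ℕ) :
    (Matrix.SpecialLinearGroup.transvection hij t) ^ n =
      Matrix.SpecialLinearGroup.transvection hij ((n : K) * t) := by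
  induction n with
  | zero => rw [pow_zero, Nat.cast_zero, zero_mul, Matrix.SpecialLinearGroup.transvection_coeff_zero]
  | succ n ih =>
    rw [pow_succ, ih, ← Matrix.SpecialLinearGroup.transvection_add]
    congr 1
    push_cast
    ring

theorem not_nc_psl {K : Type u} [Field K] [Finite K] (h2 : (2 : K) ≠ 0) :
    ¬ NC (ProjectiveSpecialLinearGroup (Fin 2) K) := by
  intro h
  obtain ⟨p, hp⟩ := CharP.exists K
  have hpf : Fact p.Prime := ⟨CharP.char_is_prime K p⟩
  have hp2 : p ≠ 2 := by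
    rintro rfl
    exact h2 (by exact_mod_cast CharP.cast_eq_zero K 2)
  have hodd : ¬ 2 ∣ p := fun h => hp2 ((Nat.prime_dvd_prime_iff_eq Nat.prime_two hpf.out).1 h).symm
  have key : ∀ (i j : Fin 2) (hij : i ≠ j) (t : K),
      ¬ 2 ∣ orderOf (pr (Matrix.SpecialLinearGroup.transvection hij t)) := by
    intro i j hij t hd
    have h1 : (pr (Matrix.SpecialLinearGroup.transvection hij t)) ^ p = 1 := by
      rw [← map_pow, transvection_pow, CharP.cast_eq_zero, zero_mul,
        Matrix.SpecialLinearGroup.transvection_coeff_zero, map_one]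
    exact hodd (hd.trans (orderOf_dvd_of_pow_eq_one h1))
  have h01 : (0 : Fin 2) ≠ 1 := by decide
  refine h.closed (key 0 1 h01 1) (key 1 0 h01.symm (-2)) ?_
  obtain ⟨A, hA⟩ : ∃ A : Matrix.SpecialLinearGroup (Fin 2) K,
      A = Matrix.SpecialLinearGroup.transvection h01 1 *
        Matrix.SpecialLinearGroup.transvection h01.symm (-2) := ⟨_, rfl⟩
  rw [← map_mul, ← hA]
  have htr : (A : Matrix (Fin 2) (Fin 2) K).trace = 0 := by
    rw [hA, Matrix.SpecialLinearGroup.coe_mul, Matrix.SpecialLinearGroup.transvection_coe,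
      Matrix.SpecialLinearGroup.transvection_coe, trace_fin_two]
    simp only [Matrix.mul_apply, Fin.sum_univ_two, Matrix.single_apply, _root_.Fin.isValue, _root_.Matrix.add_apply, _root_.true_and, _root_.and_true, _root_.Matrix.one_apply_eq, _root_.one_ne_zero, ↓ _root_.reduceIte, _root_.add_zero, _root_.mul_one, _root_.ne_eq, _root_.zero_ne_one, _root_.not_false_eq_true, _root_.Matrix.one_apply_ne, _root_.zero_add, _root_.mul_neg, _root_.one_mul, _root_.false_and, _root_.Matrix.single_apply_of_ne, _root_.and_false, _root_.MulZeroClass.mul_zero]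
    norm_num
  have hA01 : (A : Matrix (Fin 2) (Fin 2) K) 0 1 = 1 := by
    rw [hA, Matrix.SpecialLinearGroup.coe_mul, Matrix.SpecialLinearGroup.transvection_coe,
      Matrix.SpecialLinearGroup.transvection_coe]
    simp [Matrix.mul_apply, Fin.sum_univ_two, Matrix.single_apply]
  have hsq : (pr A) ^ 2 = 1 := by
    rw [← map_pow, sl2_sq_of_trace_zero htr, pr_eq_one_iff, mem_center_SL2_iff]
    exact Or.inr rfl
  have hne : pr A ≠ 1 := by
    intro h3
    rw [pr_eq_one_iff, mem_center_SL2_iff] at h3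
    rcases h3 with h3 | h3 <;> rw [h3] at hA01 <;> simp at hA01
  rw [orderOf_eq_prime hsq hne]

/-! ### Subfields -/

theorem mem_range_of_pow_card {F K : Type*} [Field F] [Fintype F] [Field K] (f : F →+* K) {x : K}
    (hx : x ^ Fintype.card F = x) : ∃ t : F, f t = x := by
  classical
  set q := Fintype.card F with hq
  have hq1 : 1 < q := Fintype.one_lt_card
  have hne : (X ^ q - X : K[X]) ≠ 0 := FiniteField.X_pow_card_sub_X_ne_zero K hq1
  have hsub : (Finset.univ.image f : Finset K) ⊆ (X ^ q - X : K[X]).roots.toFinset := by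
    intro y hy
    obtain ⟨t, -, rfl⟩ := Finset.mem_image.1 hy
    rw [Multiset.mem_toFinset, mem_roots hne]
    simp only [IsRoot, ← map_pow, hq, FiniteField.pow_card, _root_.Polynomial.eval_sub, _root_.Polynomial.eval_pow, _root_.Polynomial.eval_X, _root_.sub_self]
  have hcard : (X ^ q - X : K[X]).roots.toFinset.card ≤ (Finset.univ.image f : Finset K).card := by
    rw [Finset.card_image_of_injective _ f.injective, Finset.card_univ, ← hq]
    calc _ ≤ Multiset.card (X ^ q - X : K[X]).roots := Multiset.toFinset_card_le _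
      _ ≤ (X ^ q - X : K[X]).natDegree := card_roots' _
      _ = q := FiniteField.X_pow_card_sub_X_natDegree_eq K hq1
  have heq := Finset.eq_of_subset_of_card_le hsub hcard
  have hx' : x ∈ (X ^ q - X : K[X]).roots.toFinset := by
    rw [Multiset.mem_toFinset, mem_roots hne]
    simp [IsRoot, hx]
  rw [← heq] at hx'
  obtain ⟨t, -, ht⟩ := Finset.mem_image.1 hx'
  exact ⟨t, ht⟩

section sub

variable {F0 F : Type} [Field F0] [Fintype F0] [Field F] [Fintype F] (φ : F0 →+* F)

/-- Field automorphisms preserve the subfields. -/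
theorem aut_range (σ : F ≃+* F) (x : F0) : ∃ y : F0, φ y = σ (φ x) := by
  refine mem_range_of_pow_card φ ?_
  rw [← map_pow, ← map_pow, FiniteField.pow_card]

/-- A nonsquare of `F0` remains a nonsquare in an extension of odd degree. -/
theorem nonsquare_map {m : ℕ} (hm : Odd m) (hcard : Fintype.card F0 ^ m = Fintype.card F)
    (h2 : (2 : F0) ≠ 0) {d : F0} (hd : ¬ IsSquare d) : ¬ IsSquare (φ d) := by
  rintro ⟨x, hx⟩
  have hd0 : d ≠ 0 := by
    rintro rfl
    exact hd ⟨0, by simp⟩
  have hx0 : x ≠ 0 := by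
    rintro rfl
    rw [mul_zero] at hx
    exact hd0 ((map_eq_zero φ).1 hx)
  have h2F : (2 : F) ≠ 0 := by
    intro h
    apply h2
    apply φ.injective
    rw [map_zero, map_ofNat]
    exact h
  have hodd0 : Odd (Fintype.card F0) := (two_ne_zero_iff_odd F0).1 h2
  have h1 : (x ^ Fintype.card F0) * (x ^ Fintype.card F0) = x * x := by
    rw [← mul_pow, ← hx, ← map_pow, FiniteField.pow_card]
  rcases mul_self_eq_mul_self_iff.1 h1 with h3 | h3
  · obtain ⟨t, ht⟩ := mem_range_of_pow_card φ h3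
    apply hd
    refine ⟨t, φ.injective ?_⟩
    rw [map_mul, ht, hx]
  · have key : ∀ k : ℕ, x ^ (Fintype.card F0 ^ k) = (-1) ^ k * x := by
      intro k
      induction k with
      | zero => simp
      | succ k ih =>
        rw [pow_succ, pow_mul, ih, mul_pow, h3, ← pow_mul, mul_comm k, pow_mul, hodd0.neg_one_pow,
          pow_succ]
        ring
    have h4 := key m
    rw [hcard, FiniteField.pow_card, hm.neg_one_pow] at h4
    have h5 : (2 : F) * x = 0 := by linear_combination h4
    rcases mul_eq_zero.1 h5 with h6 | h6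
    · exact h2F h6
    · exact hx0 h6

/-- The subfield subgroup `PSL(2, F0)` of `PSL(2, F)`. -/
def sub : Subgroup (ProjectiveSpecialLinearGroup (Fin 2) F) := (pslMap (n := Fin 2) φ).range

variable {φ}

theorem pr_mem_sub {X : Matrix.SpecialLinearGroup (Fin 2) F} (h : ∀ i j, ∃ t : F0, φ t = X i j) : pr X ∈ sub φ := by
  choose Y hY using h
  have hX : (X : Matrix (Fin 2) (Fin 2) F) = φ.mapMatrix (Matrix.of Y) := by
    ext i j
    rw [RingHom.mapMatrix_apply, Matrix.map_apply, Matrix.of_apply]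
    exact (hY i j).symm
  have hdet : (Matrix.of Y).det = 1 := by
    apply φ.injective
    rw [RingHom.map_det, ← hX, X.2, map_one]
  obtain ⟨B, hB⟩ : ∃ B : Matrix.SpecialLinearGroup (Fin 2) F0, (B : Matrix (Fin 2) (Fin 2) F0) = Matrix.of Y :=
    ⟨⟨Matrix.of Y, hdet⟩, rfl⟩
  refine ⟨QuotientGroup.mk B, ?_⟩
  rw [pslMap_mk]
  have h1 : Matrix.SpecialLinearGroup.map φ B = X := by
    apply Subtype.ext
    rw [Matrix.SpecialLinearGroup.map_apply_coe, hB, hX]
  rw [h1]
  rfl

theorem mem_sub {x : ProjectiveSpecialLinearGroup (Fin 2) F} (h : x ∈ sub φ) :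
    ∃ X : Matrix.SpecialLinearGroup (Fin 2) F, pr X = x ∧ ∀ i j, ∃ t : F0, φ t = X i j := by
  obtain ⟨y, rfl⟩ := h
  obtain ⟨Y, rfl⟩ := QuotientGroup.mk_surjective y
  exact ⟨Matrix.SpecialLinearGroup.map φ Y, rfl, fun i j => ⟨Y i j, rfl⟩⟩

theorem map_eq_of_le {G : Type*} [Group G] [Finite G] {H : Subgroup G} {α : MulAut G}
    (h : ∀ x ∈ H, α x ∈ H) : H.map α.toMonoidHom = H := by
  have h1 : H.map α.toMonoidHom ≤ H := by
    rintro _ ⟨x, hx, rfl⟩
    exact h x hx
  apply Subgroup.eq_of_le_of_card_ge h1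
  rw [Nat.card_congr (H.equivMapOfInjective α.toMonoidHom α.injective).toEquiv]

theorem map_mul_aut {G : Type*} [Group G] (H : Subgroup G) (α β : MulAut G) :
    H.map (α * β).toMonoidHom = (H.map β.toMonoidHom).map α.toMonoidHom := by
  rw [Subgroup.map_map]
  rfl

theorem map_fld (σ : F ≃+* F) : (sub φ).map (lift (fld σ)).toMonoidHom = sub φ := by
  apply map_eq_of_le
  intro x hx
  obtain ⟨X, rfl, hX⟩ := mem_sub hx
  rw [lift_pr]
  apply pr_mem_sub
  intro i j
  obtain ⟨t, ht⟩ := hX i j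
  rw [coe_fld_apply]
  rw [← ht]
  exact aut_range φ σ t

theorem exists_diag (d : F0) (hd : d ≠ 0) : ∃ D : GL (Fin 2) F, (D : Matrix (Fin 2) (Fin 2) F).det = φ d ∧
    (sub φ).map (lift (cj D)).toMonoidHom = sub φ := by
  have hφ : φ d ≠ 0 := fun h => hd ((map_eq_zero φ).1 h)
  obtain ⟨D, hD, hDi⟩ : ∃ D : GL (Fin 2) F, (D : Matrix (Fin 2) (Fin 2) F) = !![φ d, 0; 0, 1] ∧
      ((D⁻¹ : GL (Fin 2) F) : Matrix (Fin 2) (Fin 2) F) = !![φ d⁻¹, 0; 0, 1] := by
    refine ⟨⟨!![φ d, 0; 0, 1], !![φ d⁻¹, 0; 0, 1], ?_, ?_⟩, rfl, rfl⟩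
    · ext i j
      (revert i j; simp only [Matrix.mul_apply, Fin.sum_univ_two, hφ, _root_.Fin.forall_fin_succ, _root_.map_inv₀, _root_.Matrix.of_apply, _root_.Matrix.cons_val', _root_.Matrix.cons_val_fin_one, Fin.isValue, _root_.Matrix.cons_val_zero, _root_.Matrix.cons_val_one, _root_.MulZeroClass.mul_zero, _root_.add_zero, _root_.Matrix.cons_val_succ, _root_.mul_one, _root_.zero_add, _root_.IsEmpty.forall_iff, _root_.and_true, _root_.ne_eq, _root_.not_false_eq_true, _root_.mul_inv_cancel₀, _root_.Matrix.one_apply_eq, Nat.reduceAdd, _root_.Fin.succ_zero_eq_one, _root_.zero_ne_one, _root_.Matrix.one_apply_ne, _root_.and_self, _root_.MulZeroClass.zero_mul, _root_.Fin.succ_ne_zero, _root_.true_and])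
    · ext i j
      (revert i j; simp only [Matrix.mul_apply, Fin.sum_univ_two, hφ, _root_.Fin.forall_fin_succ, _root_.map_inv₀, _root_.Matrix.of_apply, _root_.Matrix.cons_val', _root_.Matrix.cons_val_fin_one, Fin.isValue, _root_.Matrix.cons_val_zero, _root_.Matrix.cons_val_one, _root_.MulZeroClass.mul_zero, _root_.add_zero, _root_.Matrix.cons_val_succ, _root_.mul_one, _root_.zero_add, _root_.IsEmpty.forall_iff, _root_.and_true, _root_.ne_eq, _root_.not_false_eq_true, _root_.inv_mul_cancel₀, _root_.Matrix.one_apply_eq, Nat.reduceAdd, _root_.Fin.succ_zero_eq_one, _root_.zero_ne_one, _root_.Matrix.one_apply_ne, _root_.and_self, _root_.MulZeroClass.zero_mul, _root_.Fin.succ_ne_zero, _root_.true_and])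
  refine ⟨D, by rw [hD, det_fin_two]; simp, ?_⟩
  apply map_eq_of_le
  intro x hx
  obtain ⟨X, rfl, hX⟩ := mem_sub hx
  rw [lift_pr]
  apply pr_mem_sub
  choose Y hY using hX
  have hent : ∀ i j, (cj D X : Matrix (Fin 2) (Fin 2) F) i j =
      (D : Matrix (Fin 2) (Fin 2) F) i i * X i j * ((D⁻¹ : GL (Fin 2) F) : Matrix (Fin 2) (Fin 2) F) j j := by
    intro i j
    rw [coe_cj, hD, hDi]
    simp only [Matrix.mul_apply, Fin.sum_univ_two]
    (revert i j; simp only [_root_.Fin.forall_fin_succ, Fin.isValue, _root_.Matrix.of_apply, _root_.Matrix.cons_val', _root_.Matrix.cons_val_zero, _root_.Matrix.cons_val_fin_one, _root_.Matrix.cons_val_one, _root_.map_inv₀, _root_.MulZeroClass.mul_zero, _root_.add_zero, _root_.mul_eq_mul_right_iff, _root_.inv_eq_zero, _root_.map_eq_zero, _root_.Matrix.cons_val_succ, _root_.mul_one, _root_.zero_add, _root_.Fin.succ_zero_eq_one, _root_.IsEmpty.forall_iff, _root_.and_true, _root_.MulZeroClass.zero_mul, _root_.true_or, _root_.and_self, _root_.one_mul])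
  have hr : ∀ i, ∃ t : F0, φ t = (D : Matrix (Fin 2) (Fin 2) F) i i := by
    intro i
    rw [hD]
    fin_cases i
    · exact ⟨d, by simp⟩
    · exact ⟨1, by simp⟩
  have hri : ∀ i, ∃ t : F0, φ t = ((D⁻¹ : GL (Fin 2) F) : Matrix (Fin 2) (Fin 2) F) i i := by
    intro i
    rw [hDi]
    fin_cases i
    · exact ⟨d⁻¹, by simp⟩
    · exact ⟨1, by simp⟩
  intro i j
  obtain ⟨a, ha⟩ := hr i
  obtain ⟨b, hb⟩ := hri j
  exact ⟨a * Y i j * b, by rw [map_mul, map_mul, ha, hb, hY]; exact (hent i j).symm⟩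

/-- The class of the subfield subgroup is invariant under all automorphisms. -/
theorem sub_invariant {m : ℕ} (hm : Odd m) (hcard : Fintype.card F0 ^ m = Fintype.card F)
    (h2 : (2 : F0) ≠ 0) (α : MulAut (ProjectiveSpecialLinearGroup (Fin 2) F)) :
    ∃ s : ProjectiveSpecialLinearGroup (Fin 2) F,
      (sub φ).map α.toMonoidHom = (sub φ).map (MulAut.conj s).toMonoidHom := by
  classical
  obtain ⟨p, hp⟩ := CharP.exists F
  have hpf : Fact p.Prime := ⟨CharP.char_is_prime F p⟩
  obtain ⟨A, σ, rfl⟩ := surj_two p α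
  rw [map_mul, map_mul_aut, map_fld]
  have h2F : ringChar F ≠ 2 := by
    intro h
    apply h2
    apply φ.injective
    rw [map_zero, map_ofNat]
    have : CharP F 2 := by rw [← h]; exact ringChar.charP F
    exact CharTwo.two_eq_zero
  have h2F0 : ringChar F0 ≠ 2 := by
    intro h
    apply h2
    have : CharP F0 2 := by rw [← h]; exact ringChar.charP F0
    exact CharTwo.two_eq_zero
  have hdet : (A : Matrix (Fin 2) (Fin 2) F).det ≠ 0 := by
    have h1 := (Matrix.GeneralLinearGroup.det A).ne_zero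
    rwa [Matrix.GeneralLinearGroup.val_det_apply] at h1
  by_cases hsq : IsSquare (A : Matrix (Fin 2) (Fin 2) F).det
  · obtain ⟨c, hc⟩ := hsq
    obtain ⟨g, hg⟩ := lift_cj_of_det A c (by rw [hc, sq])
    exact ⟨g, by rw [hg]⟩
  · obtain ⟨d, hd⟩ := FiniteField.exists_nonsquare h2F0
    have hd0 : d ≠ 0 := by
      rintro rfl
      exact hd ⟨0, by simp⟩
    have hdF := nonsquare_map φ hm hcard h2 hd
    obtain ⟨D, hD, hDs⟩ := exists_diag (φ := φ) d hd0
    have h1 : IsSquare ((A * D : GL (Fin 2) F) : Matrix (Fin 2) (Fin 2) F).det := by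
      have h3 : (A : Matrix (Fin 2) (Fin 2) F).det * φ d ≠ 0 :=
        mul_ne_zero hdet (fun h => hd0 ((map_eq_zero φ).1 h))
      rw [Units.val_mul, det_mul, hD, ← quadraticChar_one_iff_isSquare h3, map_mul,
        (quadraticChar_neg_one_iff_not_isSquare).2 hsq, (quadraticChar_neg_one_iff_not_isSquare).2 hdF]
      norm_num
    obtain ⟨c, hc⟩ := h1
    obtain ⟨g, hg⟩ := lift_cj_of_det (A * D) c (by rw [hc, sq])
    refine ⟨g, ?_⟩
    rw [← hg, map_mul, map_mul, map_mul_aut, hDs]

theorem sub_ne_top {m : ℕ} (hm : 1 < m) (hcard : Fintype.card F0 ^ m = Fintype.card F)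
    (h2 : (2 : F0) ≠ 0) : sub φ ≠ ⊤ := by
  intro h
  have hodd0 : Odd (Fintype.card F0) := (two_ne_zero_iff_odd F0).1 h2
  have hoddF : Odd (Fintype.card F) := by rw [← hcard]; exact hodd0.pow
  have h1 := card_PSL2_odd F0 hodd0
  have h3 := card_PSL2_odd F hoddF
  have h4 : Nat.card (ProjectiveSpecialLinearGroup (Fin 2) F0) = Nat.card (ProjectiveSpecialLinearGroup (Fin 2) F) := by
    rw [← Subgroup.card_top (G := ProjectiveSpecialLinearGroup (Fin 2) F), ← h]
    exact Nat.card_congr (MonoidHom.ofInjective (pslMap_injective φ)).toEquiv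
  rw [h4, h3] at h1
  have hq0 : 1 < Fintype.card F0 := Fintype.one_lt_card
  have hlt : Fintype.card F0 < Fintype.card F := by
    rw [← hcard]
    calc Fintype.card F0 = Fintype.card F0 ^ 1 := (pow_one _).symm
      _ < _ := Nat.pow_lt_pow_right hq0 hm
  have h5 : Fintype.card F0 ^ 2 ≤ Fintype.card F ^ 2 := Nat.pow_le_pow_left hlt.le 2
  have h6 : 1 < Fintype.card F0 ^ 2 := Nat.one_lt_pow two_ne_zero hq0
  have h7 : Fintype.card F0 * (Fintype.card F0 ^ 2 - 1) < Fintype.card F * (Fintype.card F ^ 2 - 1) := by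
    apply Nat.mul_lt_mul_of_lt_of_le hlt (by omega)
    omega
  omega

end sub

/-! ### The main theorem -/

theorem card_mod {n q : ℕ} (h : n * 2 = q * (q ^ 2 - 1)) (hq : q % 8 = 3 ∨ q % 8 = 5) : n % 8 = 4 := by
  rcases hq with hq | hq
  · obtain ⟨k, hk⟩ : ∃ k, q = 8 * k + 3 := ⟨q / 8, by omega⟩
    have h1 : q * (q ^ 2 - 1) = 512 * k ^ 3 + 576 * k ^ 2 + 208 * k + 24 := by
      have h2 : q ^ 2 - 1 = 64 * k ^ 2 + 48 * k + 8 := by
        rw [hk]
        have : (8 * k + 3) ^ 2 = 64 * k ^ 2 + 48 * k + 8 + 1 := by ring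
        omega
      rw [h2, hk]
      ring
    omega
  · obtain ⟨k, hk⟩ : ∃ k, q = 8 * k + 5 := ⟨q / 8, by omega⟩
    have h1 : q * (q ^ 2 - 1) = 512 * k ^ 3 + 960 * k ^ 2 + 592 * k + 120 := by
      have h2 : q ^ 2 - 1 = 64 * k ^ 2 + 80 * k + 24 := by
        rw [hk]
        have : (8 * k + 5) ^ 2 = 64 * k ^ 2 + 80 * k + 24 + 1 := by ring
        omega
      rw [h2, hk]
      ring
    omega

theorem psl2 {S : Type u} [Group S] [Finite S] (h : Loc S) {F : Type} [Field F] [Fintype F]
    (hF : Odd (Fintype.card F)) (e : S ≃* Matrix.ProjectiveSpecialLinearGroup (Fin 2) F) : IsL2 S := by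
  obtain ⟨p, hp⟩ := CharP.exists F
  have hpf : Fact p.Prime := ⟨CharP.char_is_prime F p⟩
  obtain ⟨f, -, hf⟩ := FiniteField.card F p
  have hcS : Nat.card S * 2 = Fintype.card F * (Fintype.card F ^ 2 - 1) := by
    rw [Nat.card_congr e.toEquiv, card_PSL2_odd F hF]
  have hp2 : p ≠ 2 := by
    rintro rfl
    rw [hf] at hF
    exact (Nat.not_even_iff_odd.2 hF) ((Nat.even_pow.2 ⟨even_two, f.pos.ne'⟩))
  have hmod : Fintype.card F % 8 = 1 ∨ Fintype.card F % 8 = 7 ∨ Fintype.card F % 8 = 3 ∨ Fintype.card F % 8 = 5 := by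
    obtain ⟨k, hk⟩ := hF
    omega
  by_cases h35 : Fintype.card F % 8 = 3 ∨ Fintype.card F % 8 = 5
  · exfalso
    refine not_nc_of_nonsol h.nonsol (nc_of_card_four ?_ h.normalizer_sylow)
    exact card_mod hcS h35
  · have h17 : Fintype.card F % 8 = 1 ∨ Fintype.card F % 8 = 7 := by
      rcases hmod with h1 | h1 | h1 | h1
      · exact Or.inl h1
      · exact Or.inr h1
      · exact absurd (Or.inl h1) h35
      · exact absurd (Or.inr h1) h35
    obtain ⟨a, m, hm, ham⟩ := Nat.exists_eq_two_pow_mul_odd f.pos.ne'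
    refine ⟨F, inferInstance, inferInstance, ?_, ⟨e⟩⟩
    by_cases hm1 : m = 1
    · subst hm1
      rw [mul_one] at ham
      rw [ham] at hf
      rcases Nat.eq_zero_or_pos a with rfl | ha
      · right
        rw [pow_zero, pow_one] at hf
        exact ⟨hf ▸ hpf.out, h17⟩
      · left
        exact ⟨p, a, hpf.out, hp2, ha, hf⟩
    · exfalso
      have hm2 : 1 < m := by
        have := hm.pos
        omega
      let _ : Fintype (GaloisField p (2 ^ a)) := Fintype.ofFinite _
      have hc0 : Fintype.card (GaloisField p (2 ^ a)) = p ^ 2 ^ a := by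
        rw [← Nat.card_eq_fintype_card]
        exact GaloisField.card p (2 ^ a) (by positivity)
      have hcard : Fintype.card (GaloisField p (2 ^ a)) ^ m = Fintype.card F := by
        rw [hc0, hf, ham, pow_mul]
      obtain ⟨φ⟩ := exists_ringHom_of_card_pow hcard
      have h2 : (2 : GaloisField p (2 ^ a)) ≠ 0 := by
        rw [two_ne_zero_iff_odd, hc0]
        exact (hpf.out.odd_of_ne_two hp2).pow
      have hne : (sub φ).map e.symm.toMonoidHom ≠ ⊤ := by
        intro hcon
        apply sub_ne_top (φ := φ) hm2 hcard h2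
        rw [eq_top_iff]
        intro x _
        have h3 : e.symm x ∈ (sub φ).map e.symm.toMonoidHom := by rw [hcon]; exact mem_top _
        obtain ⟨y, hy, hyx⟩ := h3
        have h4 : y = x := e.symm.injective hyx
        rwa [← h4]
      have hnc := h.star _ hne (fun α => by
        obtain ⟨s, hs⟩ := sub_invariant (φ := φ) hm hcard h2 (MulAut.congr e α)
        refine ⟨e.symm s, ?_⟩
        have h3 : ∀ β : MulAut S, ((sub φ).map e.symm.toMonoidHom).map β.toMonoidHom =
            ((sub φ).map (MulAut.congr e β).toMonoidHom).map e.symm.toMonoidHom := by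
          intro β
          rw [Subgroup.map_map, Subgroup.map_map]
          congr 1
          ext x
          change β (e.symm x) = e.symm (e (β (e.symm x)))
          rw [e.symm_apply_apply]
        have h4 : MulAut.congr e (MulAut.conj (e.symm s)) = MulAut.conj s := by
          apply MulEquiv.ext
          intro x
          change e (MulAut.conj (e.symm s) (e.symm x)) = _
          simp only [MulAut.conj_apply, _root_.map_mul, _root_.MulEquiv.apply_symm_apply, _root_.map_inv]
        rw [h3, h3, h4, hs])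
      refine not_nc_psl (K := GaloisField p (2 ^ a)) h2 ?_
      have e1 : ProjectiveSpecialLinearGroup (Fin 2) (GaloisField p (2 ^ a)) ≃* sub φ :=
        MonoidHom.ofInjective (pslMap_injective φ)
      have e2 : sub φ ≃* (sub φ).map e.symm.toMonoidHom :=
        (sub φ).equivMapOfInjective e.symm.toMonoidHom e.symm.injective
      exact (NC.congr (e1.trans e2)).2 hnc

end Cfsg.Agent.H161.L2Sub
end
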